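import Groth.Agent.Lib.HypSq10.Curve
import Groth.Agent.Lib.RR22.Kunneth
import Groth.Agent.Lib.NumPoly18.ProdHodge
import Groth.Agent.Lib.NumPoly18.SurfCartier
import Groth.Agent.Lib.NumPoly18.SurfForm

/-!
# The square of a curve: Euler characteristics, intersections, vanishing
-/

set_option autoImplicit false
set_option linter.style.haveILetI false
set_option linter.unusedSectionVars false
set_option maxHeartbeats 2000000
set_option backward.isDefEq.respectTransparency false
set_option backward.isDefEq.respectTransparency.types false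

universe u

open CategoryTheory CategoryTheory.Limits AlgebraicGeometry TopologicalSpace Opposite

noncomputable section

namespace Groth.Agent.HypSq10

open Groth.Agent.CurveCoh17 (hequiv hmap hdelta exact_hmap_hmap exact_hmap_hdelta exact_hdelta_hmap hmap_f_injective)
open Groth.Agent.Abel10 (pc pc_comp pc_id)

noncomputable local instance instLawSurf (Y : Scheme.{u}) : PicGrp.Law Y := M2.law Y

variable {k : Type u} [Field k]

section Free

variable {Y : Scheme.{u}} [Y.Over (Spec (CommRingCat.of k))]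

include k in
theorem subsingleton_of_isZero {M : Y.Modules} (h : IsZero M) (n : ℕ) : Subsingleton (Coh.HH Y M n) :=
  subsingleton_of_forall_eq 0 fun x => by
    rw [← CurveCoh17.hmap_id (A := k) M n x, h.eq_of_src (𝟙 M) 0, CurveCoh17.hmap_zero]

include k in
theorem subsingleton_free_tensor {G : Y.Modules} {n : ℕ} (hG : Subsingleton (Coh.HH Y G n)) : ∀ r : ℕ,
    Subsingleton (Coh.HH Y (CohB1.tensorMod (FlatMod.freeMod Y r) G) n)
  | 0 => by
    have h0 : IsZero (FlatMod.freeMod Y 0) :=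
      IsZero.of_iso (isZero_zero _) ⟨0, 0, Sigma.hom_ext _ _ fun i => i.elim0, (isZero_zero _).eq_of_src _ _⟩
    exact subsingleton_of_isZero (k := k) ((M2.tensorR G).map_isZero h0) n
  | r + 1 => by
    obtain ⟨s⟩ : Nonempty (CurveCoh17.freeSC Y r).Splitting :=
      ⟨{ r := Sigma.desc fun j : Fin (r + 1) => Fin.lastCases (motive := fun _ => Coh.structureModule Y ⟶
            FlatMod.freeMod Y r) 0 (fun i => Sigma.ι (fun _ : Fin r => Coh.structureModule Y) i) j
         s := Sigma.ι (fun _ : Fin (r + 1) => Coh.structureModule Y) (Fin.last r)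
         f_r := Sigma.hom_ext _ _ fun i => by simp
         s_g := P1Split.ι_proj_self _ _
         id := Sigma.hom_ext _ _ fun j => by
           refine Fin.lastCases ?_ (fun i => ?_) j
           · simp [Preadditive.comp_add, P1Split.proj]
           · simp [Preadditive.comp_add, P1Split.proj, Fin.castSucc_ne_last] }⟩
    have hS := (s.map (M2.tensorR G)).shortExact
    haveI := subsingleton_free_tensor hG r
    haveI : Subsingleton (Coh.HH Y (CohB1.tensorMod (Coh.structureModule Y) G) n) :=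
      haveI := hG
      (hequiv k (M2.tensorLUnit G) n).toEquiv.subsingleton
    exact subsingleton_of_forall_eq 0 fun x => by
      obtain ⟨y, hy⟩ := (exact_hmap_hmap k hS n x).1 (Subsingleton.elim (α := Coh.HH Y (CohB1.tensorMod (Coh.structureModule Y) G) n) _ _)
      rw [← hy, Subsingleton.elim (α := Coh.HH Y (CohB1.tensorMod (FlatMod.freeMod Y r) G) n) y 0, map_zero]

end Free

variable [IsAlgClosed k] (C : Scheme.{u}) [C.Over (Spec (CommRingCat.of k))]

/-- The square over the base field. -/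
@[reducible] def overSq :
    (pullback (C ↘ Spec (CommRingCat.of k)) (C ↘ Spec (CommRingCat.of k))).Over (Spec (CommRingCat.of k)) :=
  ⟨pullback.fst (C ↘ Spec (CommRingCat.of k)) (C ↘ Spec (CommRingCat.of k)) ≫ (C ↘ Spec (CommRingCat.of k))⟩

attribute [local instance] overSq

/-- The square. -/
abbrev Sq : Scheme.{u} := pullback (C ↘ Spec (CommRingCat.of k)) (C ↘ Spec (CommRingCat.of k))

variable [IsProper (C ↘ Spec (CommRingCat.of k))] [Smooth (C ↘ Spec (CommRingCat.of k))] [IsIntegral C]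

instance isProper_sq : IsProper ((Sq (k := k) C) ↘ Spec (CommRingCat.of k)) :=
  inferInstanceAs (IsProper (pullback.fst (C ↘ Spec (CommRingCat.of k)) (C ↘ Spec (CommRingCat.of k)) ≫ (C ↘ Spec (CommRingCat.of k))))

instance smooth_sq : Smooth ((Sq (k := k) C) ↘ Spec (CommRingCat.of k)) :=
  inferInstanceAs (Smooth (pullback.fst (C ↘ Spec (CommRingCat.of k)) (C ↘ Spec (CommRingCat.of k)) ≫ (C ↘ Spec (CommRingCat.of k))))

variable {C} (hdim : topologicalKrullDim C = 1)
include hdim

theorem dim_sq : topologicalKrullDim (Sq (k := k) C) ≤ ((2 : ℕ) : WithBot ℕ∞) := by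
  have hg : VarDim.sdim (C ↘ Spec (CommRingCat.of k)) (genericPoint C) = 1 := by
    have h := VarDim.dim_eq_sdim_genericPoint (C ↘ Spec (CommRingCat.of k))
    rw [hdim] at h
    exact_mod_cast h.symm
  rw [VarDim.dim_eq_iSup_sdim ((Sq (k := k) C) ↘ Spec (CommRingCat.of k))]
  refine iSup_le fun z => ?_
  have h := (DimF18.sdim_prod (C ↘ Spec (CommRingCat.of k)) (C ↘ Spec (CommRingCat.of k)) z).1
  have hb : ∀ c : C, VarDim.sdim (C ↘ Spec (CommRingCat.of k)) c ≤ 1 := fun c => hg ▸ by
    rcases eq_or_ne (genericPoint C) c with h | h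
    · rw [h]
    · exact (VarDim.sdim_lt_of_specializes (C ↘ Spec (CommRingCat.of k)) ((genericPoint_spec C).specializes (Set.mem_univ c)) h).le
  have := hb (pullback.fst (C ↘ Spec (CommRingCat.of k)) (C ↘ Spec (CommRingCat.of k)) z)
  have := hb (pullback.snd (C ↘ Spec (CommRingCat.of k)) (C ↘ Spec (CommRingCat.of k)) z)
  exact Nat.cast_le.2 (show VarDim.sdim (pullback.fst (C ↘ Spec (CommRingCat.of k)) (C ↘ Spec (CommRingCat.of k)) ≫ (C ↘ Spec (CommRingCat.of k))) z ≤ 2 by omega)

theorem van_sq_of_lt (c : PicLoc.PicSet (Sq (k := k) C)) {n : ℕ} (hn : 2 < n) : Van n c := by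
  haveI : IsNoetherian (Sq (k := k) C) := CohFound.isNoetherian_of_isProper ((Sq (k := k) C) ↘ Spec (CommRingCat.of k))
  exact NumPoly18.subsingleton_HH_of_support (k := k) (isCoh_rep c) (NumPoly18.dim_support_le (dim_sq hdim) _) hn

omit hdim in
/-- The intersection number of two classes. -/
def dot (a b : PicLoc.PicSet (Sq (k := k) C)) : ℤ := chi k (a * b) - chi k a - chi k b + chi k (1 : PicLoc.PicSet (Sq (k := k) C))

omit hdim in
theorem ndot_eq {A B : (Sq (k := k) C).Modules} (hA : PicF.IsInvertible A) (hB : PicF.IsInvertible B) :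
    NumPoly18.dot k A B = (dot (PicGrp.cls A hA) (PicGrp.cls B hB) : ℚ) := by
  rw [NumPoly18.dot, NumPoly18.md_cons, NumPoly18.md_iso _ (M2.tensorLUnit A)]
  simp only [show (fun _ : Fin 1 => B) = (Fin.cons B (fun i : Fin 0 => i.elim0) : Fin 1 → (Sq (k := k) C).Modules) from
    funext fun i => by fin_cases i; rfl, NumPoly18.md_cons, NumPoly18.md_zero_vars,
    CurveCoh17.euler_iso (M2.tensorLUnit B)]
  rw [dot, AlgEquiv22.cls_tensor hA hB, ← euler_eq_chi, ← euler_eq_chi, ← euler_eq_chi, chi_one]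
  push_cast
  ring

theorem intNum_eq {A B : (Sq (k := k) C).Modules} (hA : PicF.IsInvertible A) (hB : PicF.IsInvertible B) :
    FGA.intNum k (Sq (k := k) C) 2 ![A, B] (Coh.structureModule (Sq (k := k) C)) =
      dot (PicGrp.cls A hA) (PicGrp.cls B hB) := by
  have h := (NumPoly18.intNum2 (dim_sq (k := k) hdim) hA hB).trans (ndot_eq hA hB)
  exact_mod_cast h

theorem dot_mul (a a' b : PicLoc.PicSet (Sq (k := k) C)) : dot (a * a') b = dot a b + dot a' b := by
  have h := NumPoly18.dot_tensor (k := k) (dim_sq (k := k) hdim) (rep_inv a) (rep_inv a') (rep_inv b)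
  rw [ndot_eq (k := k) (M2.isInvertible_tensor (rep_inv a) (rep_inv a')) (rep_inv b), ndot_eq (k := k) (rep_inv a) (rep_inv b),
    ndot_eq (k := k) (rep_inv a') (rep_inv b), ← AlgEquiv22.cls_tensor (rep_inv a) (rep_inv a'), cls_rep, cls_rep, cls_rep] at h
  exact_mod_cast h

omit hdim in
theorem dot_comm (a b : PicLoc.PicSet (Sq (k := k) C)) : dot a b = dot b a := by
  rw [dot, dot, mul_comm]; ring

omit hdim in
theorem dot_one_left (b : PicLoc.PicSet (Sq (k := k) C)) : dot 1 b = 0 := by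
  rw [dot, one_mul]; ring

theorem dot_inv (a b : PicLoc.PicSet (Sq (k := k) C)) : dot a⁻¹ b = - dot a b := by
  have h := dot_mul hdim a a⁻¹ b
  rw [mul_inv_cancel, dot_one_left] at h
  omega

theorem dot_pow (a b : PicLoc.PicSet (Sq (k := k) C)) (r : ℕ) : dot (a ^ r) b = r * dot a b := by
  induction r with
  | zero => rw [pow_zero, dot_one_left]; simp
  | succ r ih => rw [pow_succ, dot_mul hdim, ih]; push_cast; ring

omit hdim in
theorem chi_mul (a b : PicLoc.PicSet (Sq (k := k) C)) :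
    chi k (a * b) = dot a b + chi k a + chi k b - chi k (1 : PicLoc.PicSet (Sq (k := k) C)) := by
  rw [dot]; ring

section Curve

variable (i : C ⟶ Sq (k := k) C) [IsClosedImmersion i]
  (hik : i ≫ ((Sq (k := k) C) ↘ Spec (CommRingCat.of k)) = C ↘ Spec (CommRingCat.of k))
  (hI : BlowUp.IsEffCartierIdeal i.ker) {N : (Sq (k := k) C).Modules} (hN : PicF.IsInvertible N)
  (hinv : ClSub.IsInverseOf N (ClSub.idealMod i.ker))
include hI hinv hik

/-- Intersection with a curve is the degree on it. -/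
theorem dot_curve (c : PicLoc.PicSet (Sq (k := k) C)) : dot (PicGrp.cls N hN) c = deg k (pc i c) := by
  obtain ⟨e⟩ := hinv
  obtain ⟨q⟩ := NumPoly18.nonempty_quotMod_ker i
  have h := NumPoly18.dot_eq_cdeg_quot (k := k) (dim_sq (k := k) hdim) hI (Iso.refl _) hN e (rep_inv c)
  rw [ndot_eq (k := k) hN (rep_inv c), cls_rep, NumPoly18.cdeg, NumPoly18.md_iso _ q, ← NumPoly18.cdeg,
    NumPoly18.cdeg_push i hik (rep_inv c)] at h
  have h2 : deg k (pc i c) = Curv2.deg k C ((Scheme.Modules.pullback i).obj (rep c)) 1 := by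
    rw [deg_eq (PicLoc.isInvertible_pullback i (rep_inv c))]
    congr 1
    conv_lhs => rw [← cls_rep c]
    exact PicGrp.pullHom_cls i _ (rep c) (rep_inv c)
  rw [h2]
  exact_mod_cast h

omit hdim hik in
/-- The restriction sequence. -/
theorem exists_ses (c : PicLoc.PicSet (Sq (k := k) C)) :
    ∃ S : ShortComplex (Sq (k := k) C).Modules, S.ShortExact ∧ Nonempty (S.X₁ ≅ rep c) ∧
      Nonempty (S.X₂ ≅ rep (c * PicGrp.cls N hN)) ∧
      Nonempty (S.X₃ ≅ (Scheme.Modules.pushforward i).obj (rep (pc i (c * PicGrp.cls N hN)))) := by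
  obtain ⟨e⟩ := hinv
  set M := rep (c * PicGrp.cls N hN)
  have hM : PicF.IsInvertible M := rep_inv _
  obtain ⟨M', hM', ⟨eM⟩⟩ := M2.exists_inverse hM
  obtain ⟨q⟩ := NumPoly18.nonempty_quotMod_ker i
  have hIinv := M2.isInvertible_idealMod _ hI
  have hS := CurveCoh17.shortExact_tensorR (M2.shortExact_idealMod i.ker) M
    (fun x => ChiTwist22.flat_stalk_of_locFree (M2.isFinLocFree_of_isInvertible hM) x)
  refine ⟨_, hS, ?_, ⟨M2.tensorLUnit M⟩, ?_⟩
  · refine (PicGrp.cls_eq_cls_iff (M2.isInvertible_tensor hIinv hM) (rep_inv c)).1 ?_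
    rw [← AlgEquiv22.cls_tensor hIinv hM, cls_rep, cls_rep]
    have h1 := (PicGrp.cls_mul_cls_eq_one_iff hN hIinv).2 ⟨e⟩
    rw [mul_left_comm, mul_comm (PicGrp.cls (ClSub.idealMod i.ker) hIinv), h1, mul_one]
  · have h3 : PicGrp.cls ((Scheme.Modules.pullback i).obj M) (PicLoc.isInvertible_pullback i hM) =
        pc i (c * PicGrp.cls N hN) := by
      conv_rhs => rw [← cls_rep (c * PicGrp.cls N hN)]
      exact (PicGrp.pullHom_cls i _ M hM).symm
    obtain ⟨j⟩ := (PicGrp.cls_eq_cls_iff _ (rep_inv _)).1 (h3.trans (cls_rep _).symm)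
    exact ⟨(M2.tensorR M).mapIso q ≪≫ ((Kunneth22.projIso i eM).app (Coh.structureModule C)) ≪≫
      (Scheme.Modules.pushforward i).mapIso (M2.tensorLUnit _ ≪≫ j)⟩

variable (c : PicLoc.PicSet (Sq (k := k) C))

omit hdim in
theorem chi_restrict : chi k (c * PicGrp.cls N hN) = chi k c + chi k (pc i (c * PicGrp.cls N hN)) := by
  obtain ⟨S, hS, ⟨e1⟩, ⟨e2⟩, ⟨e3⟩⟩ := exists_ses i hI hN hinv c
  haveI : IsNoetherian (Sq (k := k) C) := CohFound.isNoetherian_of_isProper ((Sq (k := k) C) ↘ Spec (CommRingCat.of k))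
  haveI : IsNoetherian C := CohFound.isNoetherian_of_isProper (C ↘ Spec (CommRingCat.of k))
  have h := ChiTwist22.euler_add_coh (k := k) hS (CohFound.isCoh_of_iso e1.symm (isCoh_rep c))
    (CohFound.isCoh_of_iso e2.symm (isCoh_rep _))
    (CohFound.isCoh_of_iso e3.symm (CohFound.isCoh_push_closedImm i (isCoh_rep _)))
  rw [CurveCoh17.euler_iso e1, CurveCoh17.euler_iso e2, CurveCoh17.euler_iso e3,
    AmpleFin18.euler_push i hik _ (isCoh_rep _).1] at h
  exact h

omit hdim in
/-- Vanishing climbs along the restriction sequence. -/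
theorem van_restrict (n : ℕ) (h1 : Van n c) (h2 : Van n (pc i (c * PicGrp.cls N hN))) :
    Van n (c * PicGrp.cls N hN) := by
  obtain ⟨S, hS, ⟨e1⟩, ⟨e2⟩, ⟨e3⟩⟩ := exists_ses i hI hN hinv c
  haveI : IsNoetherian C := CohFound.isNoetherian_of_isProper (C ↘ Spec (CommRingCat.of k))
  obtain ⟨p⟩ := AmpleFin18.nonempty_HH_push (k := k) i hik _ (isCoh_rep (pc i (c * PicGrp.cls N hN))).1 n
  haveI : Subsingleton (Coh.HH (Sq (k := k) C) (rep c) n) := h1
  haveI : Subsingleton (Coh.HH C (rep (pc i (c * PicGrp.cls N hN))) n) := h2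
  haveI : Subsingleton (Coh.HH (Sq (k := k) C) S.X₁ n) := (hequiv k e1 n).toEquiv.subsingleton
  haveI : Subsingleton (Coh.HH (Sq (k := k) C) S.X₃ n) := ((hequiv k e3 n).trans p).toEquiv.subsingleton
  haveI : Subsingleton (Coh.HH (Sq (k := k) C) S.X₂ n) := subsingleton_of_forall_eq 0 fun x => by
    obtain ⟨y, hy⟩ := (exact_hmap_hmap k hS n x).1 (Subsingleton.elim _ _)
    rw [← hy, Subsingleton.elim y 0, map_zero]
  exact (hequiv k e2 n).symm.toEquiv.subsingleton

omit hdim in
/-- Sections do not grow when the restriction has none. -/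
theorem hh_restrict_zero (h2 : Van 0 (pc i (c * PicGrp.cls N hN))) :
    hh k 0 (c * PicGrp.cls N hN) = hh k 0 c := by
  obtain ⟨S, hS, ⟨e1⟩, ⟨e2⟩, ⟨e3⟩⟩ := exists_ses i hI hN hinv c
  haveI : IsNoetherian C := CohFound.isNoetherian_of_isProper (C ↘ Spec (CommRingCat.of k))
  obtain ⟨p⟩ := AmpleFin18.nonempty_HH_push (k := k) i hik _ (isCoh_rep (pc i (c * PicGrp.cls N hN))).1 0
  haveI : Subsingleton (Coh.HH C (rep (pc i (c * PicGrp.cls N hN))) 0) := h2
  haveI : Subsingleton (Coh.HH (Sq (k := k) C) S.X₃ 0) := ((hequiv k e3 0).trans p).toEquiv.subsingleton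
  have hb : Function.Bijective (hmap k S.f 0) := ⟨hmap_f_injective k hS, fun x =>
    (exact_hmap_hmap k hS 0 x).1 (Subsingleton.elim _ _)⟩
  exact (((hequiv k e1 0).symm.trans (LinearEquiv.ofBijective _ hb)).trans (hequiv k e2 0)).finrank_eq.symm

omit hdim in
/-- Sections add up when `H¹` of the smaller class vanishes. -/
theorem hh_restrict_add (h1 : Van 1 c) :
    hh k 0 (c * PicGrp.cls N hN) = hh k 0 c + hh k 0 (pc i (c * PicGrp.cls N hN)) := by
  obtain ⟨S, hS, ⟨e1⟩, ⟨e2⟩, ⟨e3⟩⟩ := exists_ses i hI hN hinv c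
  haveI : IsNoetherian (Sq (k := k) C) := CohFound.isNoetherian_of_isProper ((Sq (k := k) C) ↘ Spec (CommRingCat.of k))
  haveI : IsNoetherian C := CohFound.isNoetherian_of_isProper (C ↘ Spec (CommRingCat.of k))
  obtain ⟨p⟩ := AmpleFin18.nonempty_HH_push (k := k) i hik _ (isCoh_rep (pc i (c * PicGrp.cls N hN))).1 0
  haveI : Subsingleton (Coh.HH (Sq (k := k) C) (rep c) 1) := h1
  haveI : Subsingleton (Coh.HH (Sq (k := k) C) S.X₁ 1) := (hequiv k e1 1).toEquiv.subsingleton
  haveI : Module.Finite k (Coh.HH (Sq (k := k) C) S.X₂ 0) :=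
    CohFound.finite_HH_of_isProper _ (CohFound.isCoh_of_iso e2.symm (isCoh_rep _)) 0
  have h := CurveCoh17.finrank_eq_range_add_range _ _ (exact_hmap_hmap k hS 0)
  have hr : LinearMap.range (hmap k S.g 0) = ⊤ :=
    LinearMap.range_eq_top.2 fun x => (exact_hmap_hdelta k hS 0 x).1 (Subsingleton.elim _ _)
  rw [LinearMap.finrank_range_of_inj (hmap_f_injective k hS), hr, finrank_top, (hequiv k e1 0).finrank_eq,
    (hequiv k e2 0).finrank_eq, ((hequiv k e3 0).trans p).finrank_eq] at h
  exact h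

end Curve

section Box

local notation "q₁" => pullback.fst (C ↘ Spec (CommRingCat.of k)) (C ↘ Spec (CommRingCat.of k))
local notation "q₂" => pullback.snd (C ↘ Spec (CommRingCat.of k)) (C ↘ Spec (CommRingCat.of k))

omit hdim in
theorem box_rep (a b : PicLoc.PicSet C) :
    Nonempty (rep (pc q₁ a * pc q₂ b) ≅
      CohB1.tensorMod ((Scheme.Modules.pullback q₁).obj (rep a)) ((Scheme.Modules.pullback q₂).obj (rep b))) :=
  (PicGrp.cls_eq_cls_iff (rep_inv _)
    (M2.isInvertible_tensor (PicLoc.isInvertible_pullback _ (rep_inv a)) (PicLoc.isInvertible_pullback _ (rep_inv b)))).1 (by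
    rw [cls_rep, ← AlgEquiv22.cls_tensor (PicLoc.isInvertible_pullback _ (rep_inv a)) (PicLoc.isInvertible_pullback _ (rep_inv b))]
    conv_lhs => rw [← cls_rep a, ← cls_rep b]
    rw [pc, PicGrp.pullHom_cls, pc, PicGrp.pullHom_cls])

omit hdim in
/-- Künneth, both factors without the cohomology in question. -/
theorem van_box {a b : PicLoc.PicSet C} (ha : ∀ n, 0 < n → Van n a) {n : ℕ} (hb : Van n b) :
    Van n (pc q₁ a * pc q₂ b) := by
  haveI : IsNoetherian C := CohFound.isNoetherian_of_isProper (C ↘ Spec (CommRingCat.of k))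
  obtain ⟨i⟩ := box_rep (k := k) a b
  obtain ⟨G', -, ⟨e⟩⟩ := M2.exists_inverse (rep_inv b)
  haveI : Module.Finite k (Coh.HH C (rep a) 0) := CohFound.finite_HH_of_isProper _ (isCoh_rep a) 0
  obtain ⟨j⟩ := RR22.nonempty_push_iso_free (k := k) (isCoh_rep a).1
  set r := Module.finrank k (Coh.HH C (rep a) 0)
  haveI := subsingleton_free_tensor (k := k) (G := rep b) hb r
  haveI : Subsingleton (Coh.HH C ((Kunneth22.OF (k := k) (rep b)).obj
      ((Scheme.Modules.pushforward (C ↘ Spec (CommRingCat.of k))).obj (rep a))) n) :=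
    (hequiv k (M2.tensorIso ((Scheme.Modules.pullback (C ↘ Spec (CommRingCat.of k))).mapIso j ≪≫
      M2.freeModPullbackIso _ r) (Iso.refl (rep b))) n).toEquiv.subsingleton
  haveI : Subsingleton (Coh.HH (Sq (k := k) C)
      (CohB1.tensorMod ((Scheme.Modules.pullback q₁).obj (rep a)) ((Scheme.Modules.pullback q₂).obj (rep b))) n) :=
    (Kunneth22.toZ_bijective (k := k) q₁ q₂ e (IsPullback.of_hasPullback _ _) (rep_inv b) (isCoh_rep a).1 ha n).2.subsingleton
  exact (hequiv k i n).toEquiv.subsingleton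

omit hdim in
theorem chi_box_acyclic {a b : PicLoc.PicSet C} (ha : ∀ n, 0 < n → Van n a) :
    chi k (pc q₁ a * pc q₂ b) = chi k a * chi k b := by
  haveI : IsNoetherian C := CohFound.isNoetherian_of_isProper (C ↘ Spec (CommRingCat.of k))
  obtain ⟨i⟩ := box_rep (k := k) a b
  rw [chi, CurveCoh17.euler_iso i]
  exact RR22.euler_box_acyclic (k := k) (IsPullback.of_hasPullback _ _) pullback.condition.symm (rep_inv b)
    (isCoh_rep b) (isCoh_rep a) ha

omit hdim in
theorem chi_box_acyclic' {a b : PicLoc.PicSet C} (hb : ∀ n, 0 < n → Van n b) :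
    chi k (pc q₁ a * pc q₂ b) = chi k a * chi k b := by
  haveI : IsNoetherian C := CohFound.isNoetherian_of_isProper (C ↘ Spec (CommRingCat.of k))
  obtain ⟨i⟩ := box_rep (k := k) a b
  rw [chi, CurveCoh17.euler_iso (i ≪≫ M2.tensorComm _ _), mul_comm]
  exact RR22.euler_box_acyclic (k := k) (IsPullback.of_hasPullback _ _).flip rfl (rep_inv a)
    (isCoh_rep a) (isCoh_rep b) hb

theorem acyclic_of_deg {a : PicLoc.PicSet C} (h : 2 * (Curv2.genus k C : ℤ) - 2 < deg k a) :
    ∀ n, 0 < n → Van n a := fun n hn => by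
  rcases Nat.lt_or_ge n 2 with h' | h'
  · obtain rfl : n = 1 := by omega
    exact van_one_of_deg hdim h
  · exact van_of_le (k := k) hdim a n h'

variable (e : PicLoc.PicSet C) (he : 2 * (Curv2.genus k C : ℤ) - 2 < deg k e) (he0 : 0 < deg k e)
include he he0

theorem box_data :
    (∀ a, chi k (pc q₁ a) - chi k (1 : PicLoc.PicSet (Sq (k := k) C)) = (1 - (Curv2.genus k C : ℤ)) * deg k a) ∧
    (∀ b, chi k (pc q₂ b) - chi k (1 : PicLoc.PicSet (Sq (k := k) C)) = (1 - (Curv2.genus k C : ℤ)) * deg k b) ∧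
    (∀ a b, dot (pc q₁ a) (pc q₂ b) = deg k a * deg k b) ∧
    chi k (1 : PicLoc.PicSet (Sq (k := k) C)) = (1 - (Curv2.genus k C : ℤ)) ^ 2 := by
  set w : ℤ := 1 - (Curv2.genus k C : ℤ) with hw
  set O : ℤ := chi k (1 : PicLoc.PicSet (Sq (k := k) C))
  have hc : ∀ a, chi k a = deg k a + w := fun a => by rw [chi_eq hdim, hw]; ring
  have hc1 : chi k (1 : PicLoc.PicSet C) = w := by rw [hc, deg_one (k := k) hdim]; ring
  have hp : deg k (e * e) = 2 * deg k e := by rw [deg_mul hdim]; ring
  have hbig : 2 * (Curv2.genus k C : ℤ) - 2 < deg k (e * e) := by omega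
  have k1 : ∀ a, 2 * (Curv2.genus k C : ℤ) - 2 < deg k a → ∀ b,
      dot (pc q₁ a) (pc q₂ b) + (chi k (pc q₂ b) - O) = chi k a * deg k b := by
    intro a ha b
    have h1 := chi_box_acyclic (k := k) (b := b) (acyclic_of_deg hdim ha)
    have h2 := chi_box_acyclic (k := k) (b := (1 : PicLoc.PicSet C)) (acyclic_of_deg hdim ha)
    rw [map_one, mul_one, hc1] at h2
    rw [chi_mul, hc b] at h1
    linear_combination h1 - h2
  have k2 : ∀ b, 2 * (Curv2.genus k C : ℤ) - 2 < deg k b → ∀ a,
      dot (pc q₁ a) (pc q₂ b) + (chi k (pc q₁ a) - O) = chi k b * deg k a := by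
    intro b hb a
    have h1 := chi_box_acyclic' (k := k) (a := a) (acyclic_of_deg hdim hb)
    have h2 := chi_box_acyclic' (k := k) (a := (1 : PicLoc.PicSet C)) (acyclic_of_deg hdim hb)
    rw [map_one, one_mul, hc1] at h2
    rw [chi_mul, hc a] at h1
    linear_combination h1 - h2
  have dmul : ∀ a a' b, dot (pc q₁ (a * a')) (pc q₂ b) = dot (pc q₁ a) (pc q₂ b) + dot (pc q₁ a') (pc q₂ b) :=
    fun a a' b => by rw [map_mul, dot_mul hdim]
  have B : ∀ b, chi k (pc q₂ b) - O = w * deg k b := fun b => by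
    have h1 := k1 e he b
    have h2 := k1 (e * e) hbig b
    rw [hc] at h1
    rw [hc, hp, dmul] at h2
    linear_combination 2 * h1 - h2
  have A : ∀ a, chi k (pc q₁ a) - O = w * deg k a := fun a => by
    have h1 := k2 e he a
    have h2 := k2 (e * e) hbig a
    rw [hc] at h1
    rw [hc, hp, map_mul, dot_comm, dot_mul hdim, dot_comm] at h2
    linear_combination 2 * h1 - h2
  have hebig : ∀ b, dot (pc q₁ e) (pc q₂ b) = deg k e * deg k b := fun b => by
    have h1 := k1 e he b
    rw [hc, B b] at h1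
    linear_combination h1
  have D : ∀ a b, dot (pc q₁ a) (pc q₂ b) = deg k a * deg k b := by
    intro a b
    obtain ⟨m, hm⟩ : ∃ m : ℕ, 2 * (Curv2.genus k C : ℤ) - 2 < deg k a + m * deg k e :=
      ⟨(2 * Curv2.genus k C + (deg k a).natAbs), by
        have : (1 : ℤ) ≤ deg k e := he0
        push_cast
        nlinarith [neg_abs_le (deg k a), abs_nonneg (deg k a)]⟩
    have h1 := k1 (a * e ^ m) (by rw [deg_mul hdim, deg_pow hdim]; exact hm) b
    rw [hc, deg_mul hdim, deg_pow hdim, dmul, map_pow, dot_pow hdim, hebig, B b] at h1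
    linear_combination h1
  refine ⟨A, B, D, ?_⟩
  have h := chi_box_acyclic (k := k) (b := e) (acyclic_of_deg hdim he)
  rw [chi_mul, D, hc] at h
  have h1 := A e
  have h2 := B e
  linear_combination h - h1 - h2

/-- Künneth for the Euler characteristic. -/
theorem chi_box (a b : PicLoc.PicSet C) :
    chi k (pc q₁ a * pc q₂ b) = (deg k a + 1 - Curv2.genus k C) * (deg k b + 1 - Curv2.genus k C) := by
  obtain ⟨A, B, D, O⟩ := box_data hdim e he he0
  rw [chi_mul, D]
  linear_combination A a + B b + O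

end Box

end Groth.Agent.HypSq10

end
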