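import Groth.Agent.Lib.CurveOm17.Apps
import Groth.Agent.Lib.CurveOm17.AnyField
import Groth.Agent.Lib.VB17.Proper
import Groth.Agent.Lib.Abel10.AlgEquiv
import Groth.Agent.Lib.AlgEquiv22.Ample

/-!
# Numerical invariants of Picard classes; the case of a curve
-/

set_option autoImplicit false
set_option linter.style.haveILetI false
set_option linter.unusedSectionVars false
set_option maxHeartbeats 1000000
set_option backward.isDefEq.respectTransparency false
set_option backward.isDefEq.respectTransparency.types false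

universe u

open CategoryTheory CategoryTheory.Limits AlgebraicGeometry TopologicalSpace Opposite

noncomputable section

namespace Groth.Agent.HypSq10

open Groth.Agent.CurveCoh17 (hequiv)

noncomputable local instance instLawCurve (Y : Scheme.{u}) : PicGrp.Law Y := M2.law Y

variable {Y : Scheme.{u}}

/-- A representative of a class. -/
def rep (c : PicLoc.PicSet Y) : Y.Modules := (PicGrp.exists_eq_cls c).choose

theorem rep_inv (c : PicLoc.PicSet Y) : PicF.IsInvertible (rep c) := (PicGrp.exists_eq_cls c).choose_spec.choose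

theorem cls_rep (c : PicLoc.PicSet Y) : PicGrp.cls (rep c) (rep_inv c) = c :=
  (PicGrp.exists_eq_cls c).choose_spec.choose_spec.symm

theorem rep_cls {L : Y.Modules} (hL : PicF.IsInvertible L) : Nonempty (rep (PicGrp.cls L hL) ≅ L) :=
  (PicGrp.cls_eq_cls_iff (rep_inv _) hL).1 (cls_rep _)

theorem rep_one : Nonempty (rep (1 : PicLoc.PicSet Y) ≅ Coh.structureModule Y) :=
  (PicGrp.cls_eq_one_iff (rep_inv _)).1 (cls_rep _)

theorem rep_mul (a b : PicLoc.PicSet Y) : Nonempty (rep (a * b) ≅ CohB1.tensorMod (rep a) (rep b)) :=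
  (PicGrp.cls_eq_cls_iff (rep_inv _) (M2.isInvertible_tensor (rep_inv a) (rep_inv b))).1
    (by rw [cls_rep, ← AlgEquiv22.cls_tensor (rep_inv a) (rep_inv b), cls_rep, cls_rep])

theorem isCoh_rep [IsLocallyNoetherian Y] (c : PicLoc.PicSet Y) : Coh.IsCoh (rep c) :=
  CurveCoh17.isCoh_of_ofRank ((M2.isInvertible_iff_isFinLocFreeOfRank_one _).1 (rep_inv c))

theorem cls_pow_eq {L : Y.Modules} (hL : PicF.IsInvertible L) (n : ℕ) :
    PicGrp.cls (CohB1.tensorPow L n) (M2.isInvertible_tensorPow hL n) = PicGrp.cls L hL ^ n :=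
  Subtype.ext (by rw [PicGrp.cls_pow_val, PicGrp.cls_val])

variable (k : Type u) [Field k] [Y.Over (Spec (CommRingCat.of k))]

/-- The Euler characteristic of a class. -/
def chi (c : PicLoc.PicSet Y) : ℤ := Curv2.euler k Y (rep c)

/-- The dimension of the cohomology of a class. -/
def hh (n : ℕ) (c : PicLoc.PicSet Y) : ℕ := Module.finrank k (Coh.HH Y (rep c) n)

/-- Vanishing of the cohomology of a class. -/
def Van (n : ℕ) (c : PicLoc.PicSet Y) : Prop := Subsingleton (Coh.HH Y (rep c) n)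

variable {k}

theorem euler_eq_chi {L : Y.Modules} (hL : PicF.IsInvertible L) : Curv2.euler k Y L = chi k (PicGrp.cls L hL) :=
  CurveCoh17.euler_iso (rep_cls hL).some.symm

theorem finrank_eq_hh {L : Y.Modules} (hL : PicF.IsInvertible L) (n : ℕ) :
    Module.finrank k (Coh.HH Y L n) = hh k n (PicGrp.cls L hL) :=
  (hequiv k (rep_cls hL).some.symm n).finrank_eq

include k in
theorem subsingleton_of_van {L : Y.Modules} (hL : PicF.IsInvertible L) {n : ℕ} (h : Van n (PicGrp.cls L hL)) :
    Subsingleton (Coh.HH Y L n) :=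
  haveI : Subsingleton (Coh.HH Y (rep (PicGrp.cls L hL)) n) := h
  (hequiv k (rep_cls hL).some n).symm.toEquiv.subsingleton

theorem hh_of_van {n : ℕ} {c : PicLoc.PicSet Y} (h : Van n c) : hh k n c = 0 :=
  haveI : Subsingleton (Coh.HH Y (rep c) n) := h
  Module.finrank_zero_of_subsingleton

theorem chi_one : chi k (1 : PicLoc.PicSet Y) = Curv2.euler k Y (Coh.structureModule Y) :=
  CurveCoh17.euler_iso rep_one.some

variable (k) in
/-- The degree of a class. -/
def deg (c : PicLoc.PicSet Y) : ℤ := chi k c - chi k (1 : PicLoc.PicSet Y)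

theorem deg_eq {L : Y.Modules} (hL : PicF.IsInvertible L) : Curv2.deg k Y L 1 = deg k (PicGrp.cls L hL) := by
  rw [deg, chi_one, ← euler_eq_chi, Curv2.deg]
  simp

theorem deg_rep (c : PicLoc.PicSet Y) : Curv2.deg k Y (rep c) 1 = deg k c := by
  rw [deg_eq (rep_inv c), cls_rep]

section Curve

variable [IsProper (Y ↘ Spec (CommRingCat.of k))] [Smooth (Y ↘ Spec (CommRingCat.of k))] [IsIntegral Y]
  [IsAlgClosed k] (hdim : topologicalKrullDim Y = 1)
include k hdim

theorem deg_mul (a b : PicLoc.PicSet Y) : deg k (a * b) = deg k a + deg k b := by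
  obtain ⟨i⟩ := rep_mul a b
  rw [← deg_rep, CurveCoh17.deg_iso i, (VB17.regCurve' hdim).like.deg_tensor_invertible (rep_inv a) (rep_inv b),
    deg_rep, deg_rep]

theorem deg_one : deg k (1 : PicLoc.PicSet Y) = 0 := sub_self _

theorem deg_inv (a : PicLoc.PicSet Y) : deg k a⁻¹ = - deg k a := by
  have h := deg_mul (k := k) hdim a a⁻¹
  rw [mul_inv_cancel, deg_one hdim] at h
  omega

theorem deg_pow (a : PicLoc.PicSet Y) (n : ℕ) : deg k (a ^ n) = n * deg k a := by
  induction n with
  | zero => rw [pow_zero, deg_one hdim]; simp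
  | succ n ih => rw [pow_succ, deg_mul hdim, ih]; push_cast; ring

theorem chi_eq (c : PicLoc.PicSet Y) : chi k c = deg k c + 1 - Curv2.genus k Y := by
  obtain ⟨hX, h0, -⟩ := VB17.setup (k := k) (X := Y) hdim
  rw [deg, chi_one, hX.like.euler_structureModule, h0]
  push_cast
  ring

theorem van_of_le (c : PicLoc.PicSet Y) (n : ℕ) (hn : 2 ≤ n) : Van n c := by
  obtain ⟨hX, -, -⟩ := VB17.setup (k := k) (X := Y) hdim
  haveI := hX.like.noetherian
  obtain ⟨m, rfl⟩ : ∃ m, n = m + 2 := ⟨n - 2, by omega⟩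
  exact (hX.like.adm (isCoh_rep c)).vanish m

theorem chi_eq_hh (c : PicLoc.PicSet Y) : chi k c = (hh k 0 c : ℤ) - hh k 1 c := by
  obtain ⟨hX, -, -⟩ := VB17.setup (k := k) (X := Y) hdim
  haveI := hX.like.noetherian
  exact (hX.like.adm (isCoh_rep c)).euler_eq

theorem eq_one_of_deg_nonpos {c : PicLoc.PicSet Y} (hd : deg k c ≤ 0) (h : ¬ Van 0 c) : c = 1 := by
  obtain ⟨i⟩ := CurveOm17.nonempty_iso_of_deg_nonpos (VB17.regCurve' (k := k) hdim) (rep_inv c) (by rw [deg_rep]; exact hd)
    (not_subsingleton_iff_nontrivial.1 h)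
  rw [← cls_rep c, PicGrp.cls_eq_one_iff]
  exact ⟨i.symm⟩

theorem van_zero_of_deg_neg {c : PicLoc.PicSet Y} (hd : deg k c < 0) : Van 0 c := by
  by_contra h
  rw [eq_one_of_deg_nonpos hdim hd.le h, deg_one hdim] at hd
  exact lt_irrefl _ hd

theorem van_one_of_deg {c : PicLoc.PicSet Y} (hd : 2 * (Curv2.genus k Y : ℤ) - 2 < deg k c) : Van 1 c := by
  obtain ⟨hX, h0, -⟩ := VB17.setup (k := k) (X := Y) hdim
  obtain ⟨-, hbig, hΩ, hdΩ, lam, hW⟩ := CurveOm17.exists_isDualizing_omega' hdim h0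
    (Omega12.isUniversal_dOmega (f := Y ↘ Spec (CommRingCat.of k)))
  obtain ⟨e⟩ : Nonempty (CohB1.tensorMod (rep c⁻¹) (rep c) ≅ Coh.structureModule Y) :=
    (PicGrp.cls_mul_cls_eq_one_iff (rep_inv _) (rep_inv _)).1 (by rw [cls_rep, cls_rep, inv_mul_cancel])
  have h1 := hW.finrank_h1 hX h0 hbig (rep_inv c) (rep_inv c⁻¹) e
  have hWL := M2.isInvertible_tensor hΩ (rep_inv c⁻¹)
  have hv : Subsingleton (Coh.HH Y (CohB1.tensorMod (Omega.sheaf (Y ↘ Spec (CommRingCat.of k))) (rep c⁻¹)) 0) := by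
    refine subsingleton_of_van (k := k) hWL (van_zero_of_deg_neg (k := k) hdim ?_)
    rw [← deg_eq, hX.like.deg_tensor_invertible hΩ (rep_inv c⁻¹), hdΩ, deg_rep, deg_inv hdim]
    omega
  haveI := hv
  replace h1 := h1.trans Module.finrank_zero_of_subsingleton
  haveI := hX.like.noetherian
  haveI := hX.like.fin _ (isCoh_rep c) 1
  exact Module.finrank_zero_iff.1 h1

theorem hh_zero_of_deg {c : PicLoc.PicSet Y} (hd : 2 * (Curv2.genus k Y : ℤ) - 2 < deg k c) :
    (hh k 0 c : ℤ) = deg k c + 1 - Curv2.genus k Y := by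
  have h := chi_eq_hh (k := k) hdim c
  rw [hh_of_van (k := k) (van_one_of_deg (k := k) hdim hd), chi_eq hdim] at h
  omega

end Curve

end Groth.Agent.HypSq10

end
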