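import Groth.Agent.Lib.Abel10.Elliptic
import Groth.Agent.Lib.Abel10.AlgEquiv
import Groth.Agent.Lib.CurveCartier25.Flag
import Groth.Agent.Lib.CurveCartier25.AddPoint
import Groth.Agent.Lib.CurveCartier25.RelDim
import Groth.Agent.Lib.CurveCoh17.Pencil2
import Groth.Agent.Lib.CurveOm17.Apps
import Groth.Agent.Lib.HypEq17.Split
import Groth.Agent.Lib.AlgEquiv22.Basic
import Groth.Agent.Lib.AmpleFib.CurveRel
import Groth.Agent.Lib.NumPoly18.ProdCurves
import Groth.Agent.Lib.Twist.Tensor
import Groth.Agent.S10829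

/-!
# The class of the diagonal of the projective line
-/

set_option autoImplicit false
set_option linter.style.haveILetI false
set_option linter.unusedSectionVars false
set_option maxHeartbeats 1600000
set_option backward.isDefEq.respectTransparency false
set_option backward.isDefEq.respectTransparency.types false

universe u

open CategoryTheory CategoryTheory.Limits AlgebraicGeometry TopologicalSpace Opposite MonoidalCategory CartesianMonoidalCategory

noncomputable section

namespace Groth.Agent.HypSq10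

open Groth.Agent.Abel10

noncomputable local instance instLawDiag (Y : Scheme.{u}) : PicGrp.Law Y := M2.law Y

/-- The diagonal of a separated smooth curve is effective Cartier. -/
theorem isEffCartierIdeal_diag {X S : Scheme.{u}} (f : X ⟶ S) [IsSeparated f] [SmoothOfRelativeDimension 1 f] :
    BlowUp.IsEffCartierIdeal (pullback.diagonal f).ker := by
  haveI := smoothOfRelativeDimension_isStableUnderBaseChange 1
  haveI : SmoothOfRelativeDimension 1 (pullback.snd f f) :=
    MorphismProperty.pullback_snd (P := @SmoothOfRelativeDimension 1) _ _ inferInstance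
  have h := CurveCartier25.isFinLocFreeOfDeg_one_section (pullback.snd f f) (pullback.diagonal f) (pullback.diagonal_snd f)
  exact CurveCartier25.isEffCartierIdeal_of_isFinLocFree (pullback.snd f f) _ h.1.1 h.1.2.1 h.1.2.2

/-- The point over a section of a slice. -/
theorem isPullback_slice {X S : Scheme.{u}} (f : X ⟶ S) (e : S ⟶ X) (he : e ≫ f = 𝟙 S)
    (m : X ⟶ pullback f f) (h1 : m ≫ pullback.fst f f = 𝟙 X) (h2 : m ≫ pullback.snd f f = f ≫ e) :
    IsPullback e e (pullback.diagonal f) m := by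
  have hsq : IsPullback m f (pullback.snd f f) e := by
    refine IsPullback.of_right ?_ h2 (IsPullback.of_hasPullback f f)
    rw [h1, he]
    exact IsPullback.of_horiz_isIso ⟨by simp⟩
  refine IsPullback.of_bot ?_ ?_ hsq
  · rw [he, pullback.diagonal_snd]
    exact IsPullback.of_vert_isIso ⟨by simp⟩
  · apply pullback.hom_ext
    · simp [h1]
    · simp [h2, reassoc_of% he]

/-- The other slice. -/
theorem isPullback_slice' {X S : Scheme.{u}} (f : X ⟶ S) (e : S ⟶ X) (he : e ≫ f = 𝟙 S)
    (m : X ⟶ pullback f f) (h1 : m ≫ pullback.fst f f = f ≫ e) (h2 : m ≫ pullback.snd f f = 𝟙 X) :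
    IsPullback e e (pullback.diagonal f) m := by
  let w := (pullbackSymmetry f f).hom
  have h := isPullback_slice f e he (m ≫ w) (by simp [w, h2]) (by simp [w, h1])
  refine IsPullback.of_iso h (Iso.refl _) (Iso.refl _) (Iso.refl _) (pullbackSymmetry f f) (by simp) (by simp) ?_ ?_
  · apply pullback.hom_ext <;> simp
  · apply pullback.hom_ext <;> simp [w]

variable (k : Type u) [Field k] [IsAlgClosed k]

/-- A point of the line has class `O(1)`. -/
theorem cls_point_mul_twist (z : Spec (CommRingCat.of k) ⟶ CohB1.ProjSpace 1 k)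
    (hz : z ≫ CohB1.ProjSpace.toSpec 1 k = 𝟙 _) (hI : PicF.IsInvertible (ClSub.idealMod z.ker)) :
    PicGrp.cls (Twist.twistProjSpace 1 k 1) (Twist.isInvertible_twistProjSpace 1 k 1) *
      PicGrp.cls (ClSub.idealMod z.ker) hI = 1 := by
  letI : (CohB1.ProjSpace 1 k).Over (Spec (CommRingCat.of k)) := ⟨CohB1.ProjSpace.toSpec 1 k⟩
  haveI := RegExt.isIntegral_projSpace 1 k
  haveI : IsProper ((CohB1.ProjSpace 1 k) ↘ Spec (CommRingCat.of k)) := ProjSpace.isProper_toSpec 1 k
  haveI : Smooth ((CohB1.ProjSpace 1 k) ↘ Spec (CommRingCat.of k)) := ProjSpace.smooth_toSpec 1 k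
  have hd : topologicalKrullDim (CohB1.ProjSpace 1 k) = 1 := by rw [S10829.result k 1]; rfl
  have hX := VB17.regCurve' (k := k) hd
  have hO := Twist.isInvertible_twistProjSpace 1 k 1
  let M := CohB1.tensorMod (Twist.twistProjSpace 1 k 1) (ClSub.idealMod z.ker)
  have hM : PicF.IsInvertible M := M2.isInvertible_tensor hO hI
  have hdeg : Curv2.deg k (CohB1.ProjSpace 1 k) M 1 = 0 := by
    rw [hX.like.deg_tensor_invertible hO hI, CurveCoh17.deg_twistP1, deg_point hd z hz]
    rfl
  have hχ : Curv2.euler k (CohB1.ProjSpace 1 k) (Coh.structureModule (CohB1.ProjSpace 1 k)) = 1 := by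
    obtain ⟨i⟩ := Twist.nonempty_twist_zero_iso (CohB1.polyGrading 1 k)
    exact (CurveCoh17.euler_iso i).symm.trans HypEq17.euler_twist_zero
  haveI := hX.like.noetherian
  have hMc := CurveCoh17.isCoh_of_ofRank ((M2.isInvertible_iff_isFinLocFreeOfRank_one _).1 hM)
  haveI := hX.like.fin _ hMc 0
  have heq := (hX.like.adm hMc).euler_eq
  have : Curv2.euler k (CohB1.ProjSpace 1 k) M = 1 := by
    rw [Curv2.deg, hχ] at hdeg
    simpa [sub_eq_zero] using hdeg
  have hnt : Nontrivial (Coh.HH (CohB1.ProjSpace 1 k) M 0) := Module.finrank_pos_iff.1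
    (show 0 < Module.finrank k (Coh.HH (CohB1.ProjSpace 1 k) M 0) by omega)
  obtain ⟨i⟩ := CurveOm17.nonempty_iso_of_deg_nonpos hX hM hdeg.le hnt
  exact (PicGrp.cls_mul_cls_eq_one_iff _ _).2 ⟨i.symm⟩

open AlgEquiv22 in
/-- The diagonal of the line is a divisor of bidegree `(1, 1)`. -/
theorem exists_locEq_diagP1 : ∃ (L : (pullback (CohB1.ProjSpace.toSpec 1 k) (CohB1.ProjSpace.toSpec 1 k)).Modules)
    (hL : PicF.IsInvertible L) (s : Γ(L, (⊤ : (pullback (CohB1.ProjSpace.toSpec 1 k) (CohB1.ProjSpace.toSpec 1 k)).Opens))),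
    LocEq L (pullback.diagonal (CohB1.ProjSpace.toSpec 1 k)).ker s ∧
      PicGrp.cls L hL =
        pc (pullback.fst (CohB1.ProjSpace.toSpec 1 k) (CohB1.ProjSpace.toSpec 1 k))
            (PicGrp.cls (Twist.twistProjSpace 1 k 1) (Twist.isInvertible_twistProjSpace 1 k 1)) *
          pc (pullback.snd (CohB1.ProjSpace.toSpec 1 k) (CohB1.ProjSpace.toSpec 1 k))
            (PicGrp.cls (Twist.twistProjSpace 1 k 1) (Twist.isInvertible_twistProjSpace 1 k 1)) := by
  letI : (CohB1.ProjSpace 1 k).Over (Spec (CommRingCat.of k)) := ⟨CohB1.ProjSpace.toSpec 1 k⟩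
  let f := CohB1.ProjSpace.toSpec 1 k
  let O1 := PicGrp.cls (Twist.twistProjSpace 1 k 1) (Twist.isInvertible_twistProjSpace 1 k 1)
  haveI hpr : IsProper f := ProjSpace.isProper_toSpec 1 k
  haveI hsm : Smooth f := ProjSpace.smooth_toSpec 1 k
  haveI : IsProper ((CohB1.ProjSpace 1 k) ↘ Spec (CommRingCat.of k)) := hpr
  haveI : Smooth ((CohB1.ProjSpace 1 k) ↘ Spec (CommRingCat.of k)) := hsm
  haveI := RegExt.isIntegral_projSpace 1 k
  have hd : topologicalKrullDim (CohB1.ProjSpace 1 k) = 1 := by rw [S10829.result k 1]; rfl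
  haveI : SmoothOfRelativeDimension 1 f :=
    CurveCartier25.smoothOfRelativeDimension_one ((CohB1.ProjSpace 1 k) ↘ Spec (CommRingCat.of k)) hd
  haveI : GeometricallyConnected ((CohB1.ProjSpace 1 k) ↘ Spec (CommRingCat.of k)) :=
    GeomIrr.geometricallyConnected_of_isSepClosed _
  haveI hgi : GeometricallyIntegral f :=
    AmpleFib.geometricallyIntegral_of_smooth_connected (k := k) (X := CohB1.ProjSpace 1 k)
  have hJ := isEffCartierIdeal_diag f
  have hI := M2.isInvertible_idealMod _ hJ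
  obtain ⟨L, hL, ⟨e⟩⟩ := M2.exists_inverse hI
  obtain ⟨s, hs⟩ := exists_locEq hJ hL (M2.tensorComm _ _ ≪≫ e)
  refine ⟨L, hL, s, hs, ?_⟩
  have slice : ∀ (z : Spec (CommRingCat.of k) ⟶ CohB1.ProjSpace 1 k) (_ : z ≫ f = 𝟙 _)
      (m : CohB1.ProjSpace 1 k ⟶ pullback f f), IsPullback z z (pullback.diagonal f) m →
      pc m (PicGrp.cls L hL) = O1 := by
    intro z hz m hm
    haveI : IsClosedImmersion z := MorphismProperty.of_isPullback (P := @IsClosedImmersion) hm inferInstance
    have hzI := isInvertible_point (k := k) hd z hz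
    have h1 : pc m (PicGrp.cls L hL) * PicGrp.cls (ClSub.idealMod z.ker) hzI = 1 := by
      rw [pc, PicGrp.pullHom_cls, PicGrp.cls_mul_cls_eq_one_iff]
      exact nonempty_iso_of_locEq (isEffCartierIdeal_point hd z hz) (PicLoc.isInvertible_pullback _ hL) (hs.pullback hm)
    exact mul_right_cancel (h1.trans (cls_point_mul_twist k z hz hzI).symm)
  let A : Over (Spec (CommRingCat.of k)) := Over.mk f
  haveI : IsProper A.hom := hpr
  haveI : GeometricallyIntegral A.hom := hgi
  haveI : LocallyOfFiniteType A.hom := inferInstanceAs (LocallyOfFiniteType f)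
  haveI : QuasiCompact A.hom := inferInstanceAs (QuasiCompact f)
  let c : PicLoc.PicSet (A ⊗ A).left :=
    PicGrp.cls L hL * (pc (pullback.fst f f) O1 * pc (pullback.snd f f) O1)⁻¹
  suffices hc : c = 1 from mul_inv_eq_one.1 hc
  obtain ⟨z₀⟩ : Nonempty (CohB1.ProjSpace 1 k) := inferInstance
  haveI : JacobsonSpace (CohB1.ProjSpace 1 k) := LocallyOfFiniteType.jacobsonSpace f
  obtain ⟨P, -, hP⟩ := nonempty_inter_closedPoints (Z := (Set.univ : Set (CohB1.ProjSpace 1 k)))
    ⟨z₀, trivial⟩ isClosed_univ.isLocallyClosed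
  let a₀ : 𝟙_ (Over (Spec (CommRingCat.of k))) ⟶ A :=
    Over.homMk (pointOfClosedPoint f P hP) (pointOfClosedPoint_comp f P hP)
  obtain ⟨N, hN, hcN⟩ := PicGrp.exists_eq_cls c
  rw [hcN, PicGrp.cls_eq_one_iff]
  have hconst : ∀ (t : 𝟙_ (Over (Spec (CommRingCat.of k))) ⟶ A), pc t.left O1 = 1 := fun t =>
    point_eq_one (k := k) (pc t.left O1)
  refine CubeField.isTriv_of_point_slices a₀ CubeField.finH1 N hN (fun t => ?_) ?_
  · rw [isTriv_iff _ hN, ← hcN]
    show pc (lift (𝟙 A) (toUnit A ≫ t)).left c = 1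
    have h1 : (lift (𝟙 A) (toUnit A ≫ t)).left ≫ pullback.fst f f = 𝟙 _ :=
      congrArg CommaMorphism.left (lift_fst (𝟙 A) (toUnit A ≫ t))
    have h2 : (lift (𝟙 A) (toUnit A ≫ t)).left ≫ pullback.snd f f = f ≫ t.left :=
      congrArg CommaMorphism.left (lift_snd (𝟙 A) (toUnit A ≫ t))
    have hz : t.left ≫ f = 𝟙 _ := Over.w t
    simp only [c, map_mul, map_inv]
    erw [slice t.left hz _ (isPullback_slice f t.left hz _ h1 h2)]
    erw [pc_comp _ _ h1, pc_comp _ _ h2]
    erw [pc_id, ← pc_comp f t.left rfl, hconst, map_one, mul_one, mul_inv_cancel]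
  · rw [isTriv_iff _ hN, ← hcN]
    show pc (lift (toUnit A ≫ a₀) (𝟙 A)).left c = 1
    have h1 : (lift (toUnit A ≫ a₀) (𝟙 A)).left ≫ pullback.fst f f = f ≫ a₀.left :=
      congrArg CommaMorphism.left (lift_fst (toUnit A ≫ a₀) (𝟙 A))
    have h2 : (lift (toUnit A ≫ a₀) (𝟙 A)).left ≫ pullback.snd f f = 𝟙 _ :=
      congrArg CommaMorphism.left (lift_snd (toUnit A ≫ a₀) (𝟙 A))
    have hz : a₀.left ≫ f = 𝟙 _ := Over.w a₀
    simp only [c, map_mul, map_inv]
    erw [slice a₀.left hz _ (isPullback_slice' f a₀.left hz _ h1 h2)]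
    erw [pc_comp _ _ h1, pc_comp _ _ h2]
    erw [pc_id, ← pc_comp f a₀.left rfl, hconst, map_one, one_mul, mul_inv_cancel]

end Groth.Agent.HypSq10

end
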