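import Groth.Agent.Lib.HypSq10.DiagP1
import Groth.Agent.Lib.HypEq17.Inv
import Groth.Agent.Lib.NumPoly18.ProdHodge

/-!
# The diagonal and the graph of the hyperelliptic involution
-/

set_option autoImplicit false
set_option linter.style.haveILetI false
set_option linter.unusedSectionVars false
set_option maxHeartbeats 1600000
set_option backward.isDefEq.respectTransparency false
set_option backward.isDefEq.respectTransparency.types false

universe u

open CategoryTheory CategoryTheory.Limits AlgebraicGeometry TopologicalSpace Opposite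

noncomputable section

namespace Groth.Agent.HypSq10

open Groth.Agent.Abel10

noncomputable local instance instLawDiv (Y : Scheme.{u}) : PicGrp.Law Y := M2.law Y

variable {X S T : Scheme.{u}}

/-- On an integral scheme a vanishing product of ideal sheaves has a vanishing factor. -/
theorem eq_bot_or_eq_bot [IsIntegral X] (I J : X.IdealSheafData) (h : I * J = ⊥) : I = ⊥ ∨ J = ⊥ := by
  by_contra hne
  push Not at hne
  have key : ∀ (K : X.IdealSheafData), K ≠ ⊥ → ∀ U : X.affineOpens, (U.1 : Set X).Nonempty → K.ideal U ≠ ⊥ := by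
    intro K hK U hU h0
    refine hK (le_bot_iff.1 fun V => ?_)
    intro a ha
    rcases (V.1 : Set X).eq_empty_or_nonempty with hV | hV
    · haveI : Subsingleton Γ(X, V.1) := by
        rw [show V.1 = ⊥ from Opens.ext hV]
        infer_instance
      simp [Subsingleton.elim a 0]
    obtain ⟨x, hxU, hxV⟩ := nonempty_preirreducible_inter U.1.isOpen V.1.isOpen hU hV
    obtain ⟨_, ⟨W, hW, rfl⟩, hxW, hWle⟩ := X.isBasis_affineOpens.exists_subset_of_mem_open
      (show x ∈ ((U.1 ⊓ V.1 : X.Opens) : Set X) from ⟨hxU, hxV⟩) (U.1 ⊓ V.1).isOpen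
    have hWV : (⟨W, hW⟩ : X.affineOpens) ≤ V := fun y hy => (hWle hy).2
    have hWU : (⟨W, hW⟩ : X.affineOpens) ≤ U := fun y hy => (hWle hy).1
    have hKW : K.ideal ⟨W, hW⟩ = ⊥ := by rw [← K.map_ideal hWU, h0, Ideal.map_bot]
    have hm : X.presheaf.map (homOfLE (show W ≤ V.1 from hWV)).op a ∈ K.ideal ⟨W, hW⟩ := by
      rw [← K.map_ideal hWV]
      exact Ideal.mem_map_of_mem _ ha
    rw [hKW, Ideal.mem_bot] at hm
    haveI : Nonempty W := ⟨⟨x, hxW⟩⟩
    show a ∈ (⊥ : X.IdealSheafData).ideal V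
    rw [show a = 0 from map_injective_of_isIntegral X (homOfLE (show W ≤ V.1 from hWV)) (hm.trans (map_zero _).symm)]
    exact Ideal.zero_mem _
  obtain ⟨_, ⟨U, hU, rfl⟩, hxU, -⟩ := X.isBasis_affineOpens.exists_subset_of_mem_open
    (show Classical.arbitrary X ∈ (Set.univ : Set X) from trivial) isOpen_univ
  haveI : Nonempty U := ⟨⟨_, hxU⟩⟩
  have h0 : I.ideal ⟨U, hU⟩ * J.ideal ⟨U, hU⟩ = ⊥ := by
    rw [← Pi.mul_apply, ← Scheme.IdealSheafData.ideal_mul, h]
    exact congrFun Scheme.IdealSheafData.ideal_bot _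
  rcases Ideal.mul_eq_bot.1 h0 with h1 | h1
  · exact key I hne.1 ⟨U, hU⟩ ⟨_, hxU⟩ h1
  · exact key J hne.2 ⟨U, hU⟩ ⟨_, hxU⟩ h1

variable {k : Type u} [Field k] {C : Scheme.{u}} [C.Over (Spec (CommRingCat.of k))]

variable (κ : C ⟶ CohB1.ProjSpace 1 k) (hκ : κ ≫ CohB1.ProjSpace.toSpec 1 k = (C ↘ Spec (CommRingCat.of k)))

include hκ in
/-- `κ × κ`. -/
def sqMap : pullback (C ↘ Spec (CommRingCat.of k)) (C ↘ Spec (CommRingCat.of k)) ⟶ pullback (CohB1.ProjSpace.toSpec 1 k) (CohB1.ProjSpace.toSpec 1 k) :=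
  pullback.lift (pullback.fst (C ↘ Spec (CommRingCat.of k)) (C ↘ Spec (CommRingCat.of k)) ≫ κ) (pullback.snd (C ↘ Spec (CommRingCat.of k)) (C ↘ Spec (CommRingCat.of k)) ≫ κ)
    (by rw [Category.assoc, Category.assoc, hκ, pullback.condition])

include hκ in
/-- The fibre square of `κ` inside the square. -/
def fibSq : pullback κ κ ⟶ pullback (C ↘ Spec (CommRingCat.of k)) (C ↘ Spec (CommRingCat.of k)) :=
  pullback.lift (pullback.fst κ κ) (pullback.snd κ κ) (by rw [← hκ, pullback.condition_assoc])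

include hκ in
theorem isPullback_fibSq :
    IsPullback (pullback.fst κ κ ≫ κ) (fibSq κ hκ) (pullback.diagonal (CohB1.ProjSpace.toSpec 1 k)) (sqMap κ hκ) := by
  have w : (pullback.fst κ κ ≫ κ) ≫ pullback.diagonal (CohB1.ProjSpace.toSpec 1 k) = fibSq κ hκ ≫ sqMap κ hκ := by
    apply pullback.hom_ext <;> simp [fibSq, sqMap, pullback.condition]
  have h1 : ∀ (s : PullbackCone (pullback.diagonal (CohB1.ProjSpace.toSpec 1 k)) (sqMap κ hκ)),
      (s.snd ≫ pullback.fst (C ↘ Spec (CommRingCat.of k)) (C ↘ Spec (CommRingCat.of k))) ≫ κ = (s.snd ≫ pullback.snd (C ↘ Spec (CommRingCat.of k)) (C ↘ Spec (CommRingCat.of k))) ≫ κ := fun s => by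
    have a := congrArg (· ≫ pullback.fst _ _) s.condition
    have b := congrArg (· ≫ pullback.snd _ _) s.condition
    simp [sqMap] at a b
    simp [← a, ← b]
  refine IsPullback.of_isLimit' ⟨w⟩ (PullbackCone.IsLimit.mk w (fun s => pullback.lift _ _ (h1 s))
    (fun s => ?_) (fun s => ?_) fun s m hm hm' => ?_)
  · have a := congrArg (· ≫ pullback.fst _ _) s.condition
    simp [sqMap] at a
    simp [a]
  · apply pullback.hom_ext <;> simp [fibSq]
  · apply pullback.hom_ext
    · simp [← hm', fibSq]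
    · simp [← hm', fibSq]

variable [IsProper (C ↘ Spec (CommRingCat.of k))] [Smooth (C ↘ Spec (CommRingCat.of k))] [IsIntegral C] [SmoothOfRelativeDimension 1 (C ↘ Spec (CommRingCat.of k))]
variable (σ : C ⟶ C) (hσp : σ ≫ (C ↘ Spec (CommRingCat.of k)) = (C ↘ Spec (CommRingCat.of k)))

/-- The graph of `σ`. -/
abbrev gr : C ⟶ pullback (C ↘ Spec (CommRingCat.of k)) (C ↘ Spec (CommRingCat.of k)) :=
  pullback.lift (𝟙 C) σ ((Category.id_comp (C ↘ Spec (CommRingCat.of k))).trans hσp.symm)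

/-- `id × σ`. -/
def shear : pullback (C ↘ Spec (CommRingCat.of k)) (C ↘ Spec (CommRingCat.of k)) ⟶ pullback (C ↘ Spec (CommRingCat.of k)) (C ↘ Spec (CommRingCat.of k)) :=
  pullback.lift (pullback.fst (C ↘ Spec (CommRingCat.of k)) (C ↘ Spec (CommRingCat.of k))) (pullback.snd (C ↘ Spec (CommRingCat.of k)) (C ↘ Spec (CommRingCat.of k)) ≫ σ) (by rw [Category.assoc, hσp, pullback.condition])

theorem diag_shear : pullback.diagonal (C ↘ Spec (CommRingCat.of k)) ≫ shear σ hσp = gr σ hσp := by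
  apply pullback.hom_ext <;> simp [shear]

theorem gr_shear (hσσ : σ ≫ σ = 𝟙 C) : gr σ hσp ≫ shear σ hσp = pullback.diagonal (C ↘ Spec (CommRingCat.of k)) := by
  apply pullback.hom_ext <;> simp [shear, hσσ]

theorem shear_shear (hσσ : σ ≫ σ = 𝟙 C) : shear σ hσp ≫ shear σ hσp = 𝟙 _ := by
  apply pullback.hom_ext <;> simp [shear, hσσ]

theorem isPullback_shear (hσσ : σ ≫ σ = 𝟙 C) :
    IsPullback (𝟙 C) (gr σ hσp) (pullback.diagonal (C ↘ Spec (CommRingCat.of k))) (shear σ hσp) :=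
  haveI : IsIso (shear σ hσp) := ⟨shear σ hσp, shear_shear σ hσp hσσ, shear_shear σ hσp hσσ⟩
  IsPullback.of_horiz_isIso ⟨by rw [Category.id_comp, gr_shear σ hσp hσσ]⟩

theorem isClosedImmersion_gr : IsClosedImmersion (gr σ hσp) := by
  haveI : IsClosedImmersion (gr σ hσp ≫ pullback.fst (C ↘ Spec (CommRingCat.of k)) (C ↘ Spec (CommRingCat.of k))) := by rw [pullback.lift_fst]; infer_instance
  exact IsClosedImmersion.of_comp _ (pullback.fst (C ↘ Spec (CommRingCat.of k)) (C ↘ Spec (CommRingCat.of k)))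

theorem isEffCartierIdeal_gr : BlowUp.IsEffCartierIdeal (gr σ hσp).ker := by
  haveI := smoothOfRelativeDimension_isStableUnderBaseChange 1
  haveI : SmoothOfRelativeDimension 1 (pullback.fst (C ↘ Spec (CommRingCat.of k)) (C ↘ Spec (CommRingCat.of k))) :=
    MorphismProperty.pullback_fst (P := @SmoothOfRelativeDimension 1) _ _ inferInstance
  have h := CurveCartier25.isFinLocFreeOfDeg_one_section (pullback.fst (C ↘ Spec (CommRingCat.of k)) (C ↘ Spec (CommRingCat.of k))) (gr σ hσp) (pullback.lift_fst _ _ _)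
  exact CurveCartier25.isEffCartierIdeal_of_isFinLocFree (pullback.fst (C ↘ Spec (CommRingCat.of k)) (C ↘ Spec (CommRingCat.of k))) _ h.1.1 h.1.2.1 h.1.2.2

/-- The class of an inverse of the ideal of the graph is a pullback of the one of the diagonal. -/
theorem cls_graph_eq (hσσ : σ ≫ σ = 𝟙 C) {N ND : (pullback (C ↘ Spec (CommRingCat.of k)) (C ↘ Spec (CommRingCat.of k))).Modules} (hN : PicF.IsInvertible N)
    (hNinv : ClSub.IsInverseOf N (ClSub.idealMod (gr σ hσp).ker)) (hND : PicF.IsInvertible ND)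
    (hNDinv : ClSub.IsInverseOf ND (ClSub.idealMod (pullback.diagonal (C ↘ Spec (CommRingCat.of k))).ker)) :
    PicGrp.cls N hN = pc (shear σ hσp) (PicGrp.cls ND hND) := by
  obtain ⟨eN⟩ := hNinv
  obtain ⟨eD⟩ := hNDinv
  haveI := isClosedImmersion_gr (k := k) σ hσp
  obtain ⟨s, hs⟩ := exists_locEq (isEffCartierIdeal_diag (C ↘ Spec (CommRingCat.of k))) hND eD
  have hIg := M2.isInvertible_idealMod _ (isEffCartierIdeal_gr (k := k) σ hσp)
  have h1 : pc (shear σ hσp) (PicGrp.cls ND hND) * PicGrp.cls (ClSub.idealMod (gr σ hσp).ker) hIg = 1 := by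
    rw [pc, PicGrp.pullHom_cls, PicGrp.cls_mul_cls_eq_one_iff]
    exact nonempty_iso_of_locEq (isEffCartierIdeal_gr σ hσp) (PicLoc.isInvertible_pullback _ hND)
      (hs.pullback (isPullback_shear σ hσp hσσ))
  exact mul_right_cancel (((PicGrp.cls_mul_cls_eq_one_iff hN hIg).2 ⟨eN⟩).trans h1.symm)

include hκ in
/-- `Δ + Γ_σ` has the class of `p₁^*O(1) ⊗ p₂^*O(1)`. -/
theorem cls_diag_mul_cls_graph [IsAlgClosed k] [IsFinite κ] [Flat κ] (hκ2 : ∀ y : ↥(CohB1.ProjSpace 1 k), κ.finrank y = 2)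
    (hσ : σ ≫ κ = κ) (hσ1 : σ ≠ 𝟙 C) (hσσ : σ ≫ σ = 𝟙 C) {N ND : (pullback (C ↘ Spec (CommRingCat.of k)) (C ↘ Spec (CommRingCat.of k))).Modules} (hN : PicF.IsInvertible N)
    (hNinv : ClSub.IsInverseOf N (ClSub.idealMod (gr σ hσp).ker)) (hND : PicF.IsInvertible ND)
    (hNDinv : ClSub.IsInverseOf ND (ClSub.idealMod (pullback.diagonal (C ↘ Spec (CommRingCat.of k))).ker)) :
    PicGrp.cls ND hND * PicGrp.cls N hN =
      pc (pullback.fst (C ↘ Spec (CommRingCat.of k)) (C ↘ Spec (CommRingCat.of k))) (pc κ (PicGrp.cls (Twist.twistProjSpace 1 k 1) (Twist.isInvertible_twistProjSpace 1 k 1))) *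
        pc (pullback.snd (C ↘ Spec (CommRingCat.of k)) (C ↘ Spec (CommRingCat.of k))) (pc κ (PicGrp.cls (Twist.twistProjSpace 1 k 1) (Twist.isInvertible_twistProjSpace 1 k 1))) := by
  haveI : IsProper (CohB1.ProjSpace.toSpec 1 k) := ProjSpace.isProper_toSpec 1 k
  haveI := smoothOfRelativeDimension_isStableUnderBaseChange 1
  haveI : SmoothOfRelativeDimension 1 (pullback.snd (C ↘ Spec (CommRingCat.of k)) (C ↘ Spec (CommRingCat.of k))) :=
    MorphismProperty.pullback_snd (P := @SmoothOfRelativeDimension 1) _ _ inferInstance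
  obtain ⟨L, hL, s, hs, hcls⟩ := exists_locEq_diagP1 k
  set j := fibSq κ hκ with hj
  haveI : IsClosedImmersion j := MorphismProperty.of_isPullback (P := @IsClosedImmersion) (isPullback_fibSq κ hκ) inferInstance
  let p₂ := pullback.snd (C ↘ Spec (CommRingCat.of k)) (C ↘ Spec (CommRingCat.of k))
  haveI : IsClosedImmersion (pullback.diagonal (C ↘ Spec (CommRingCat.of k))) := inferInstance
  haveI := isClosedImmersion_gr (k := k) σ hσp
  have hjp : j ≫ p₂ = pullback.snd κ κ := pullback.lift_snd _ _ _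
  have he : j.ker.subschemeι ≫ p₂ = inv j.toImage ≫ pullback.snd κ κ := by
    rw [IsIso.eq_inv_comp, ← Category.assoc, ← hjp]
    exact congrArg (· ≫ p₂) j.toImage_imageι
  have hD : Mor2.IsFinLocFreeOfDeg 2 (j.ker.subschemeι ≫ p₂) := by
    haveI : IsNoetherian (CohB1.ProjSpace 1 k) := CohFound.isNoetherian_of_isProper (CohB1.ProjSpace.toSpec 1 k)
    haveI : LocallyOfFinitePresentation κ := inferInstance
    rw [he]
    refine ⟨⟨inferInstance, inferInstance, inferInstance⟩, fun y => ?_⟩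
    rw [Scheme.Hom.finrank_comp_left_of_isIso, Scheme.Hom.finrank_pullback_snd, hκ2]
  have hΔ := CurveCartier25.isFinLocFreeOfDeg_one_section p₂ (pullback.diagonal (C ↘ Spec (CommRingCat.of k))) (pullback.diagonal_snd (C ↘ Spec (CommRingCat.of k)))
  have hker : ∀ (l : C ⟶ pullback κ κ), j.ker ≤ (l ≫ j).ker := fun l => l.le_ker_comp j
  have hle : j.ker ≤ (pullback.diagonal (C ↘ Spec (CommRingCat.of k))).ker := by
    have := hker (pullback.diagonal κ)
    rwa [show pullback.diagonal κ ≫ j = pullback.diagonal (C ↘ Spec (CommRingCat.of k)) from by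
      apply pullback.hom_ext <;> simp [hj, fibSq]] at this
  have hleg : j.ker ≤ (gr σ hσp).ker := by
    have := hker (pullback.lift (𝟙 C) σ (by rw [hσ, Category.id_comp]))
    rwa [show pullback.lift (𝟙 C) σ (by rw [hσ, Category.id_comp] : 𝟙 C ≫ κ = σ ≫ κ) ≫ j = gr σ hσp from by
      apply pullback.hom_ext <;> simp [hj, fibSq]] at this
  obtain ⟨K, hK, hDK⟩ := CurveCartier25.isFinLocFreeOfDeg_colon p₂ (pullback.diagonal (C ↘ Spec (CommRingCat.of k))).ker j.ker hle 1 2 hΔ hD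
  have hKg : K ≤ (gr σ hσp).ker := by
    rw [CurveCartier25.le_ker_iff]
    have h0 : j.ker.comap (gr σ hσp) = ⊥ := (CurveCartier25.le_ker_iff _ _).1 hleg
    rw [hDK, EffCartier.comap_mul] at h0
    refine (eq_bot_or_eq_bot _ _ h0).resolve_left fun hbad => hσ1 ?_
    have hl := IsClosedImmersion.lift_fac (pullback.diagonal (C ↘ Spec (CommRingCat.of k))) (gr σ hσp) ((CurveCartier25.le_ker_iff _ _).2 hbad)
    have a := congrArg (· ≫ pullback.fst (C ↘ Spec (CommRingCat.of k)) (C ↘ Spec (CommRingCat.of k))) hl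
    have b := congrArg (· ≫ pullback.snd (C ↘ Spec (CommRingCat.of k)) (C ↘ Spec (CommRingCat.of k))) hl
    simp only [Category.assoc, pullback.diagonal_fst, pullback.diagonal_snd, Category.comp_id,
      pullback.lift_fst, pullback.lift_snd] at a b
    exact b.symm.trans a
  haveI : IsIso σ := ⟨σ, hσσ, hσσ⟩
  have hg : Mor2.IsFinLocFreeOfDeg 1 ((gr σ hσp).ker.subschemeι ≫ p₂) := by
    have h := CurveCartier25.isFinLocFreeOfDeg_one_section p₂ (σ ≫ gr σ hσp)
      (by rw [Category.assoc, pullback.lift_snd, hσσ])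
    rwa [Scheme.Hom.ker_comp_of_isIso] at h
  have hKeq : K = (gr σ hσp).ker := CurveCartier25.eq_of_le_of_deg (f := p₂) hg hK hKg
  subst hKeq
  have hIΔ := isEffCartierIdeal_diag (C ↘ Spec (CommRingCat.of k))
  have hIg := isEffCartierIdeal_gr (k := k) σ hσp
  obtain ⟨i⟩ := CurveCoh17.nonempty_idealMod_mul hIΔ hIg
  have hDeff : BlowUp.IsEffCartierIdeal j.ker := hDK ▸ EffCartier.isEffCartierIdeal_mul hIΔ hIg
  have hm := PicLoc.isInvertible_pullback (sqMap κ hκ) hL
  have h1 : pc (sqMap κ hκ) (PicGrp.cls L hL) *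
      PicGrp.cls (ClSub.idealMod j.ker) (M2.isInvertible_idealMod _ hDeff) = 1 := by
    rw [pc, PicGrp.pullHom_cls, PicGrp.cls_mul_cls_eq_one_iff]
    exact nonempty_iso_of_locEq hDeff hm (hs.pullback (isPullback_fibSq κ hκ))
  have hi1 := M2.isInvertible_idealMod _ hIΔ
  have hi2 := M2.isInvertible_idealMod _ hIg
  have h2 : PicGrp.cls (ClSub.idealMod j.ker) (M2.isInvertible_idealMod _ hDeff) =
      PicGrp.cls (ClSub.idealMod (pullback.diagonal (C ↘ Spec (CommRingCat.of k))).ker) hi1 * PicGrp.cls (ClSub.idealMod (gr σ hσp).ker) hi2 :=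
    ((AlgEquiv22.cls_tensor hi1 hi2).symm.trans ((PicGrp.cls_eq_cls_iff (M2.isInvertible_tensor hi1 hi2) _).2
      ⟨i ≪≫ eqToIso (congrArg ClSub.idealMod hDK.symm)⟩)).symm
  obtain ⟨eN⟩ := hNinv
  obtain ⟨eD⟩ := hNDinv
  have h3 := (PicGrp.cls_mul_cls_eq_one_iff hN hi2).2 ⟨eN⟩
  have h4 := (PicGrp.cls_mul_cls_eq_one_iff hND hi1).2 ⟨eD⟩
  rw [h2] at h1
  have h5 : PicGrp.cls ND hND * PicGrp.cls N hN = pc (sqMap κ hκ) (PicGrp.cls L hL) := by
    refine mul_right_cancel (b := PicGrp.cls (ClSub.idealMod (pullback.diagonal (C ↘ Spec (CommRingCat.of k))).ker) hi1 *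
      PicGrp.cls (ClSub.idealMod (gr σ hσp).ker) hi2) ?_
    rw [h1, mul_mul_mul_comm, h3, h4, one_mul]
  rw [h5, hcls, map_mul]
  congr 1
  · exact (pc_comp (sqMap κ hκ) _ (pullback.lift_fst _ _ _) _).trans (pc_comp _ κ rfl _).symm
  · exact (pc_comp (sqMap κ hκ) _ (pullback.lift_snd _ _ _) _).trans (pc_comp _ κ rfl _).symm

end Groth.Agent.HypSq10

end
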