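import Groth.Agent.Lib.HypSq10.Divisor
import Groth.Agent.Lib.HypSq10.Surface
import Groth.Agent.S14340

/-!
# The square of a hyperelliptic curve
-/

set_option autoImplicit false
set_option linter.style.haveILetI false
set_option linter.unusedSectionVars false
set_option maxHeartbeats 2000000
set_option backward.isDefEq.respectTransparency false
set_option backward.isDefEq.respectTransparency.types false

universe u

open CategoryTheory CategoryTheory.Limits AlgebraicGeometry TopologicalSpace Opposite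

noncomputable section

namespace Groth.Agent.HypSq10

open Groth.Agent.Abel10 (pc pc_comp pc_id)

noncomputable local instance instLawHyp (Y : Scheme.{u}) : PicGrp.Law Y := M2.law Y

attribute [local instance] overSq

theorem isIntegral_curve (k : Type u) [Field k] (C : Scheme.{u}) [C.Over (Spec (CommRingCat.of k))]
    [IsProper (C ↘ Spec (CommRingCat.of k))] [Smooth (C ↘ Spec (CommRingCat.of k))] [ConnectedSpace C] : IsIntegral C :=
  haveI := VB17.isNoetherian_of_over (k := k) (X := C)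
  VB17.isIntegral_of_connected fun x => SmoothReg17.isDomain_stalk (C ↘ Spec (CommRingCat.of k)) x

variable {k : Type u} [Field k] [IsAlgClosed k] {C : Scheme.{u}} [C.Over (Spec (CommRingCat.of k))]
  [IsProper (C ↘ Spec (CommRingCat.of k))] [Smooth (C ↘ Spec (CommRingCat.of k))]

local notation "q₁" => pullback.fst (C ↘ Spec (CommRingCat.of k)) (C ↘ Spec (CommRingCat.of k))
local notation "q₂" => pullback.snd (C ↘ Spec (CommRingCat.of k)) (C ↘ Spec (CommRingCat.of k))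

variable [IsIntegral C] (hdim : topologicalKrullDim C = 1)
include hdim

/-- The involution is an involution. -/
theorem sq_eq_id (h2 : (2 : k) ≠ 0) (hg : 2 ≤ Curv2.genus k C) (κ : C ⟶ CohB1.ProjSpace 1 k)
    (hκ : κ ≫ CohB1.ProjSpace.toSpec 1 k = C ↘ Spec (CommRingCat.of k))
    [IsFinite κ] [Flat κ] (hκ2 : ∀ y : ↥(CohB1.ProjSpace 1 k), κ.finrank y = 2)
    (σ : C ⟶ C) (hσ : σ ≫ κ = κ) (hσ1 : σ ≠ 𝟙 C) (hσp : σ ≫ (C ↘ Spec (CommRingCat.of k)) = C ↘ Spec (CommRingCat.of k)) :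
    σ ≫ σ = 𝟙 C := by
  by_contra hne
  have h := HypEq17.involution_unique h2 hdim hg κ κ hκ hκ hκ2 hκ2 (σ ≫ σ) σ
    (by rw [Category.assoc, hσ, hσ]) hne hσ hσ1
  obtain ⟨S, hS⟩ := HypEq17.exists_dbl_of_doubleCover h2 hdim hg κ hκ hκ2
  obtain ⟨e, -, -⟩ := hS σ hσ
  haveI : IsDominant σ := ⟨dense_iff_closure_eq.2 (Set.eq_univ_of_univ_subset ((genericPoint_spec C).symm.subset.trans
    (closure_mono (Set.singleton_subset_iff.2 ⟨genericPoint C, e⟩))))⟩
  exact hσ1 (ext_of_isDominant_of_isSeparated (C ↘ Spec (CommRingCat.of k))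
    (by rw [hσp, Category.id_comp]) σ (h.trans (Category.comp_id σ).symm))

variable (κ : C ⟶ CohB1.ProjSpace 1 k) (hκ : κ ≫ CohB1.ProjSpace.toSpec 1 k = C ↘ Spec (CommRingCat.of k))
  [IsFinite κ] [Flat κ] (hκ2 : ∀ y : ↥(CohB1.ProjSpace 1 k), κ.finrank y = 2) (hg : 2 ≤ Curv2.genus k C)

omit hdim in
/-- The class of `κ^*O(1)`. -/
def lc : PicLoc.PicSet C := pc κ (PicGrp.cls (Twist.twistProjSpace 1 k 1) (Twist.isInvertible_twistProjSpace 1 k 1))

omit hdim in
theorem isInvertible_L : PicF.IsInvertible ((Scheme.Modules.pullback κ).obj (Twist.twistProjSpace 1 k 1)) :=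
  PicLoc.isInvertible_pullback κ (Twist.isInvertible_twistProjSpace 1 k 1)

omit hdim in
theorem cls_L : PicGrp.cls ((Scheme.Modules.pullback κ).obj (Twist.twistProjSpace 1 k 1)) (isInvertible_L κ) = lc κ :=
  (PicGrp.pullHom_cls _ _ _ _).symm

include hκ hκ2

theorem deg_lc : deg k (lc κ) = 2 := by
  letI : (CohB1.ProjSpace 1 k).Over (Spec (CommRingCat.of k)) := ⟨CohB1.ProjSpace.toSpec 1 k⟩
  haveI := RegExt.isIntegral_projSpace 1 k
  haveI : IsProper ((CohB1.ProjSpace 1 k) ↘ Spec (CommRingCat.of k)) := ProjSpace.isProper_toSpec 1 k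
  haveI : Smooth ((CohB1.ProjSpace 1 k) ↘ Spec (CommRingCat.of k)) := ProjSpace.smooth_toSpec 1 k
  have hdimY : topologicalKrullDim (CohB1.ProjSpace 1 k) = 1 := by rw [S10829.result k 1]; rfl
  haveI : JacobsonSpace C := LocallyOfFiniteType.jacobsonSpace (C ↘ Spec (CommRingCat.of k))
  haveI : IsNoetherian (CohB1.ProjSpace 1 k) := VB17.isNoetherian_of_over (k := k)
  haveI : LocallyOfFinitePresentation κ := inferInstance
  have hξ := CurveOm17.map_genericPoint_of_isFinite hdimY.le hdim κ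
  have hd2 : κ.residueDegree (genericPoint C) = 2 := by
    rw [← CurveCoh17.finrank_genericPoint_eq_residueDegree κ hξ
      (fun x hx => AmpleFin18.preimage_genericPoint hdim.le hdimY κ hx)]
    exact hκ2 _
  have hO := Twist.isInvertible_twistProjSpace 1 k 1
  haveI : GeometricallyConnected (C ↘ Spec (CommRingCat.of k)) := GeomIrr.geometricallyConnected_of_isSepClosed _
  have hdeg := S7640.result k C (CohB1.ProjSpace 1 k) hdim hdimY κ hκ hξ 1
    (Twist.twistProjSpace 1 k 1) ((M2.isInvertible_iff_isFinLocFreeOfRank_one _).1 hO)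
  rw [hd2, CurveCoh17.deg_twistP1] at hdeg
  rw [← cls_L, ← deg_eq, hdeg]
  norm_num

include hg

/-- The canonical class is `(g - 1)` times the double cover. -/
theorem cls_omega (hΩ : PicF.IsInvertible (Omega.sheaf (C ↘ Spec (CommRingCat.of k)))) :
    PicGrp.cls (Omega.sheaf (C ↘ Spec (CommRingCat.of k))) hΩ = lc κ ^ (Curv2.genus k C - 1) := by
  haveI : GeometricallyConnected (C ↘ Spec (CommRingCat.of k)) := GeomIrr.geometricallyConnected_of_isSepClosed _
  obtain ⟨hX, h0, -⟩ := VB17.setup (k := k) (X := C) hdim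
  obtain ⟨-, hbig, -, -, lam, hW⟩ := CurveOm17.exists_isDualizing_omega' hdim h0
    (Omega12.isUniversal_dOmega (f := C ↘ Spec (CommRingCat.of k)))
  set r := Curv2.genus k C - 1
  have hh := S14340.result k C hdim _ hg rfl κ hκ hκ2 r (by omega)
  have hL := M2.isInvertible_tensorPow (isInvertible_L κ) r
  obtain ⟨i⟩ := CurveOm17.nonempty_iso_of_deg_eq hX h0 hbig hW hL
    (by rw [hX.like.deg_tensorPow (isInvertible_L κ), deg_eq (isInvertible_L κ), cls_L, deg_lc hdim κ hκ hκ2]; omega)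
    (by rw [hh]; omega)
  rw [← (PicGrp.cls_eq_cls_iff hL hΩ).2 ⟨i⟩, cls_pow_eq (isInvertible_L κ), cls_L]

theorem pc_diag {ND : (Sq (k := k) C).Modules} (hND : PicF.IsInvertible ND)
    (hNDinv : ClSub.IsInverseOf ND (ClSub.idealMod (pullback.diagonal (C ↘ Spec (CommRingCat.of k))).ker)) :
    pc (pullback.diagonal (C ↘ Spec (CommRingCat.of k))) (PicGrp.cls ND hND) = (lc κ ^ (Curv2.genus k C - 1))⁻¹ := by
  haveI := CurveCartier25.smoothOfRelativeDimension_one (C ↘ Spec (CommRingCat.of k)) hdim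
  have hI := M2.isInvertible_idealMod _ (isEffCartierIdeal_diag (C ↘ Spec (CommRingCat.of k)))
  obtain ⟨e⟩ := hNDinv
  have h := congrArg (pc (pullback.diagonal (C ↘ Spec (CommRingCat.of k)))) ((PicGrp.cls_mul_cls_eq_one_iff hND hI).2 ⟨e⟩)
  rw [map_mul, map_one, show pc (pullback.diagonal (C ↘ Spec (CommRingCat.of k)))
      (PicGrp.cls (ClSub.idealMod (pullback.diagonal (C ↘ Spec (CommRingCat.of k))).ker) hI) = _ from
      PicGrp.pullHom_cls _ _ _ _] at h
  rw [← cls_omega hdim κ hκ hκ2 hg (PicLoc.isInvertible_pullback _ hI)]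
  exact eq_inv_of_mul_eq_one_left h

variable (σ : C ⟶ C) (hσ : σ ≫ κ = κ) (hσp : σ ≫ (C ↘ Spec (CommRingCat.of k)) = C ↘ Spec (CommRingCat.of k))
  (hσσ : σ ≫ σ = 𝟙 C) {N : (Sq (k := k) C).Modules} (hN : PicF.IsInvertible N)
  (hNinv : ClSub.IsInverseOf N (ClSub.idealMod (gr σ hσp).ker))
include hσ hσσ hNinv

theorem pc_gr : pc (gr σ hσp) (PicGrp.cls N hN) = (lc κ ^ (Curv2.genus k C - 1))⁻¹ := by
  haveI := CurveCartier25.smoothOfRelativeDimension_one (C ↘ Spec (CommRingCat.of k)) hdim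
  have hI := M2.isInvertible_idealMod _ (isEffCartierIdeal_diag (C ↘ Spec (CommRingCat.of k)))
  obtain ⟨ND, hND, ⟨e⟩⟩ := M2.exists_inverse hI
  have hD : ClSub.IsInverseOf ND (ClSub.idealMod (pullback.diagonal (C ↘ Spec (CommRingCat.of k))).ker) :=
    ⟨M2.tensorComm _ _ ≪≫ e⟩
  rw [cls_graph_eq σ hσp hσσ hN hNinv hND hD, pc_comp _ _ (gr_shear σ hσp hσσ), pc_diag hdim κ hκ hκ2 hg hND hD]

omit hdim hκ hκ2 hg hσσ hNinv in
/-- The class `F_m`. -/
def Fm (m : ℕ) : PicLoc.PicSet (Sq (k := k) C) := pc q₁ (lc κ ^ m) * pc q₂ (lc κ ^ m)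

omit hdim hκ hκ2 hg hσσ hNinv in
theorem pc_gr_Fm (m : ℕ) : pc (gr σ hσp) (Fm κ m) = lc κ ^ (2 * m) := by
  have h : pc σ (lc κ) = lc κ := pc_comp σ κ hσ _
  rw [Fm, map_mul, pc_comp _ _ (pullback.lift_fst _ _ _), pc_comp _ _ (pullback.lift_snd _ _ _), pc_id,
    map_pow, h, ← pow_add, two_mul]

/-- The restriction of `F_m ⊗ N^r` to the graph. -/
theorem pc_gr_FN (m r : ℕ) : pc (gr σ hσp) (Fm κ m * PicGrp.cls N hN ^ r) =
    lc κ ^ (2 * m) * ((lc κ ^ (Curv2.genus k C - 1)) ^ r)⁻¹ := by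
  rw [map_mul, map_pow, pc_gr_Fm κ σ hσ hσp, pc_gr hdim κ hκ hκ2 hg σ hσ hσp hσσ hN hNinv, inv_pow]

theorem deg_gr_FN (m r : ℕ) : deg k (pc (gr σ hσp) (Fm κ m * PicGrp.cls N hN ^ r)) =
    4 * (m : ℤ) - 2 * ((Curv2.genus k C : ℤ) - 1) * r := by
  rw [pc_gr_FN hdim κ hκ hκ2 hg σ hσ hσp hσσ hN hNinv, deg_mul hdim, deg_inv hdim, deg_pow hdim, deg_pow hdim,
    deg_pow hdim, deg_lc hdim κ hκ hκ2]
  push_cast [Nat.cast_sub (show 1 ≤ Curv2.genus k C by omega)]
  ring

omit hdim hκ hκ2 hg hσ hσσ hNinv in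
theorem gr_over : gr σ hσp ≫ ((Sq (k := k) C) ↘ Spec (CommRingCat.of k)) = C ↘ Spec (CommRingCat.of k) :=
  (Category.assoc _ _ _).symm.trans ((congrArg (· ≫ (C ↘ Spec (CommRingCat.of k))) (pullback.lift_fst _ _ _)).trans
    (Category.id_comp _))

theorem chi_FN (m r : ℕ) : chi k (Fm κ m * PicGrp.cls N hN ^ r) =
    (2 * (m : ℤ) - ((Curv2.genus k C : ℤ) - 1)) ^ 2 + 4 * (m : ℤ) * r -
      ((Curv2.genus k C : ℤ) - 1) * r * (r + 2) := by
  haveI := CurveCartier25.smoothOfRelativeDimension_one (C ↘ Spec (CommRingCat.of k)) hdim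
  haveI := isClosedImmersion_gr (k := k) σ hσp
  induction r with
  | zero =>
    rw [pow_zero, mul_one, Fm, chi_box hdim (lc κ ^ Curv2.genus k C)
      (by rw [deg_pow hdim, deg_lc hdim κ hκ hκ2]; omega) (by rw [deg_pow hdim, deg_lc hdim κ hκ hκ2]; omega),
      deg_pow hdim, deg_lc hdim κ hκ hκ2]
    push_cast
    ring
  | succ r ih =>
    rw [pow_succ, ← mul_assoc, chi_restrict (gr σ hσp) (gr_over σ hσp) (isEffCartierIdeal_gr σ hσp) hN hNinv,
      mul_assoc (Fm κ m), ← pow_succ, ih, chi_eq hdim, deg_gr_FN hdim κ hκ hκ2 hg σ hσ hσp hσσ hN hNinv]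
    push_cast
    ring

omit hκ hκ2 hg hσ hσσ hNinv in
theorem chi_eq_hh_sq (c : PicLoc.PicSet (Sq (k := k) C)) :
    chi k c = (hh k 0 c : ℤ) - hh k 1 c + hh k 2 c := by
  rw [chi, Curv2.euler, finsum_eq_finsetSum_of_support_subset (s := Finset.range 3)]
  · simp [Finset.sum_range_succ, hh]; ring
  · intro i hi
    simp only [Finset.coe_range, Set.mem_Iio]
    by_contra hlt
    haveI : Subsingleton (Coh.HH (Sq (k := k) C) (rep c) i) := van_sq_of_lt hdim c (show 2 < i by omega)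
    refine hi ?_
    simp [Module.finrank_zero_of_subsingleton]

omit hσ hσσ hNinv in
theorem van_Fm (m : ℕ) (hm : Curv2.genus k C ≤ m) {n : ℕ} (hn : 0 < n) : Van n (Fm (k := k) (C := C) κ m) := by
  have h : 2 * (Curv2.genus k C : ℤ) - 2 < deg k (lc κ ^ m) := by
    rw [deg_pow hdim, deg_lc hdim κ hκ hκ2]; omega
  exact van_box (k := k) (acyclic_of_deg hdim h) (acyclic_of_deg hdim h n hn)

theorem van_two (m r : ℕ) (hm : Curv2.genus k C ≤ m) : Van 2 (Fm κ m * PicGrp.cls N hN ^ r) := by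
  haveI := CurveCartier25.smoothOfRelativeDimension_one (C ↘ Spec (CommRingCat.of k)) hdim
  haveI := isClosedImmersion_gr (k := k) σ hσp
  induction r with
  | zero => rw [pow_zero, mul_one]; exact van_Fm hdim κ hκ hκ2 hg m hm (by norm_num)
  | succ r ih =>
    rw [pow_succ, ← mul_assoc]
    exact van_restrict (gr σ hσp) (gr_over σ hσp) (isEffCartierIdeal_gr σ hσp) hN hNinv _ 2 ih
      (van_of_le (k := k) hdim _ 2 le_rfl)

theorem van_one (m r : ℕ) (hm : Curv2.genus k C ≤ m) (hmr : ((Curv2.genus k C : ℤ) - 1) * (r + 1) < 2 * m) :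
    Van 1 (Fm κ m * PicGrp.cls N hN ^ r) := by
  haveI := CurveCartier25.smoothOfRelativeDimension_one (C ↘ Spec (CommRingCat.of k)) hdim
  haveI := isClosedImmersion_gr (k := k) σ hσp
  induction r with
  | zero => rw [pow_zero, mul_one]; exact van_Fm hdim κ hκ hκ2 hg m hm (by norm_num)
  | succ r ih =>
    rw [pow_succ, ← mul_assoc]
    refine van_restrict (gr σ hσp) (gr_over σ hσp) (isEffCartierIdeal_gr σ hσp) hN hNinv _ 1
      (ih (by push_cast at hmr; nlinarith)) (van_one_of_deg (k := k) hdim ?_)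
    rw [mul_assoc, ← pow_succ, deg_gr_FN hdim κ hκ hκ2 hg σ hσ hσp hσσ hN hNinv]
    push_cast at hmr ⊢
    linarith

end Groth.Agent.HypSq10

end
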