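import Groth.Agent.Lib.HypSq10.Rows

/-!
# The intersection table of the square of a hyperelliptic curve
-/

set_option autoImplicit false
set_option linter.style.haveILetI false
set_option linter.unusedSectionVars false
set_option maxHeartbeats 2000000
set_option backward.isDefEq.respectTransparency false
set_option backward.isDefEq.respectTransparency.types false

universe u

open CategoryTheory CategoryTheory.Limits AlgebraicGeometry TopologicalSpace Opposite

noncomputable section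

namespace Groth.Agent.HypSq10

open Groth.Agent.Abel10 (pc pc_comp pc_id)

noncomputable local instance instLawNum (Y : Scheme.{u}) : PicGrp.Law Y := M2.law Y

attribute [local instance] overSq

variable {k : Type u} [Field k] [IsAlgClosed k] {C : Scheme.{u}} [C.Over (Spec (CommRingCat.of k))]
  [IsProper (C ↘ Spec (CommRingCat.of k))] [Smooth (C ↘ Spec (CommRingCat.of k))] [IsIntegral C]
  (κ : C ⟶ CohB1.ProjSpace 1 k) [IsFinite κ] [Flat κ] (hdim : topologicalKrullDim C = 1)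
  (hκ : κ ≫ CohB1.ProjSpace.toSpec 1 k = C ↘ Spec (CommRingCat.of k))
  (hκ2 : ∀ y : ↥(CohB1.ProjSpace 1 k), κ.finrank y = 2) (hg : 2 ≤ Curv2.genus k C)

local notation "q₁" => pullback.fst (C ↘ Spec (CommRingCat.of k)) (C ↘ Spec (CommRingCat.of k))
local notation "q₂" => pullback.snd (C ↘ Spec (CommRingCat.of k)) (C ↘ Spec (CommRingCat.of k))

include hdim hκ hκ2 hg

theorem deg_lc_pow_big : 2 * (Curv2.genus k C : ℤ) - 2 < deg k (lc κ ^ Curv2.genus k C) ∧
    0 < deg k (lc κ ^ Curv2.genus k C) := by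
  rw [deg_pow hdim, deg_lc hdim κ hκ hκ2]
  omega

theorem dot_fst_fst (a : PicLoc.PicSet C) : dot (pc q₁ a) (pc q₁ a) = 0 := by
  obtain ⟨he, he0⟩ := deg_lc_pow_big κ hdim hκ hκ2 hg
  obtain ⟨A, -, -, -⟩ := box_data hdim _ he he0
  rw [dot, ← map_mul]
  have h1 := A (a * a)
  have h2 := A a
  rw [deg_mul hdim] at h1
  linear_combination h1 - 2 * h2

theorem dot_fst_snd (a b : PicLoc.PicSet C) : dot (pc q₁ a) (pc q₂ b) = deg k a * deg k b := by
  obtain ⟨he, he0⟩ := deg_lc_pow_big κ hdim hκ hκ2 hg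
  exact (box_data hdim _ he he0).2.2.1 a b

variable {ND : (Sq (k := k) C).Modules} (hND : PicF.IsInvertible ND)
  (hNDinv : ClSub.IsInverseOf ND (ClSub.idealMod (pullback.diagonal (C ↘ Spec (CommRingCat.of k))).ker))
include hNDinv

theorem dot_diag (c : PicLoc.PicSet (Sq (k := k) C)) :
    dot (PicGrp.cls ND hND) c = deg k (pc (pullback.diagonal (C ↘ Spec (CommRingCat.of k))) c) := by
  haveI := CurveCartier25.smoothOfRelativeDimension_one (C ↘ Spec (CommRingCat.of k)) hdim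
  refine dot_curve hdim _ ?_ (isEffCartierIdeal_diag (C ↘ Spec (CommRingCat.of k))) hND hNDinv c
  exact (Category.assoc _ _ _).symm.trans ((congrArg (· ≫ (C ↘ Spec (CommRingCat.of k))) (pullback.diagonal_fst _)).trans
    (Category.id_comp _))

theorem dot_diag_diag : dot (PicGrp.cls ND hND) (PicGrp.cls ND hND) = 2 - 2 * (Curv2.genus k C : ℤ) := by
  rw [dot_diag κ hdim hκ hκ2 hg hND hNDinv, pc_diag hdim κ hκ hκ2 hg hND hNDinv, deg_inv hdim, deg_pow hdim,
    deg_lc hdim κ hκ hκ2]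
  omega

omit hNDinv

variable (σ : C ⟶ C) (hσ : σ ≫ κ = κ) (hσp : σ ≫ (C ↘ Spec (CommRingCat.of k)) = C ↘ Spec (CommRingCat.of k))
  (hσσ : σ ≫ σ = 𝟙 C) {N : (Sq (k := k) C).Modules} (hN : PicF.IsInvertible N)
  (hNinv : ClSub.IsInverseOf N (ClSub.idealMod (gr σ hσp).ker))
include hσ hσσ hNinv

theorem dot_gr (c : PicLoc.PicSet (Sq (k := k) C)) : dot (PicGrp.cls N hN) c = deg k (pc (gr σ hσp) c) := by
  haveI := CurveCartier25.smoothOfRelativeDimension_one (C ↘ Spec (CommRingCat.of k)) hdim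
  haveI := isClosedImmersion_gr (k := k) σ hσp
  exact dot_curve hdim _ (gr_over σ hσp) (isEffCartierIdeal_gr σ hσp) hN hNinv c

theorem dot_gr_gr : dot (PicGrp.cls N hN) (PicGrp.cls N hN) = 2 - 2 * (Curv2.genus k C : ℤ) := by
  rw [dot_gr κ hdim hκ hκ2 hg σ hσ hσp hσσ hN hNinv, pc_gr hdim κ hκ hκ2 hg σ hσ hσp hσσ hN hNinv, deg_inv hdim,
    deg_pow hdim, deg_lc hdim κ hκ hκ2]
  omega

include hNDinv in
theorem cls_diag_mul_gr (hσ1 : σ ≠ 𝟙 C) : PicGrp.cls ND hND * PicGrp.cls N hN = Fm κ 1 := by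
  haveI := CurveCartier25.smoothOfRelativeDimension_one (C ↘ Spec (CommRingCat.of k)) hdim
  rw [cls_diag_mul_cls_graph κ hκ σ hσp hκ2 hσ hσ1 hσσ hN hNinv hND hNDinv, Fm, pow_one]
  rfl

include hNDinv in
theorem dot_gr_diag (hσ1 : σ ≠ 𝟙 C) :
    dot (PicGrp.cls N hN) (PicGrp.cls ND hND) = 2 * (Curv2.genus k C : ℤ) + 2 := by
  have h : PicGrp.cls ND hND = Fm κ 1 * (PicGrp.cls N hN)⁻¹ :=
    eq_mul_inv_of_mul_eq (cls_diag_mul_gr κ hdim hκ hκ2 hg hND hNDinv σ hσ hσp hσσ hN hNinv hσ1)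
  rw [dot_gr κ hdim hκ hκ2 hg σ hσ hσp hσσ hN hNinv, h, map_mul, map_inv, pc_gr_Fm κ σ hσ hσp,
    pc_gr hdim κ hκ hκ2 hg σ hσ hσp hσσ hN hNinv, inv_inv, deg_mul hdim, deg_pow hdim, deg_pow hdim,
    deg_lc hdim κ hκ hκ2]
  omega

omit hNinv in
theorem deg_gr_box (a b : PicLoc.PicSet C) :
    deg k (pc (gr σ hσp) (pc q₁ a * pc q₂ b)) = deg k a + deg k b := by
  haveI : IsIso σ := ⟨σ, hσσ, hσσ⟩
  rw [map_mul, pc_comp _ _ (pullback.lift_fst _ _ _), pc_comp _ _ (pullback.lift_snd _ _ _), pc_id, deg_mul hdim,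
    deg_pc_iso hdim σ hσp]

/-- The Euler characteristic of an exterior product twisted by the graph. -/
theorem chi_box_gr (a b : PicLoc.PicSet C) (r : ℕ) :
    chi k (pc q₁ a * pc q₂ b * PicGrp.cls N hN ^ r) =
      (deg k a - ((Curv2.genus k C : ℤ) - 1)) * (deg k b - ((Curv2.genus k C : ℤ) - 1)) +
        (r : ℤ) * (deg k a + deg k b) - ((Curv2.genus k C : ℤ) - 1) * r * (r + 2) := by
  haveI := CurveCartier25.smoothOfRelativeDimension_one (C ↘ Spec (CommRingCat.of k)) hdim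
  haveI := isClosedImmersion_gr (k := k) σ hσp
  obtain ⟨he, he0⟩ := deg_lc_pow_big κ hdim hκ hκ2 hg
  induction r with
  | zero =>
    rw [pow_zero, mul_one, chi_box hdim _ he he0]
    push_cast
    ring
  | succ r ih =>
    rw [pow_succ, ← mul_assoc, chi_restrict (gr σ hσp) (gr_over σ hσp) (isEffCartierIdeal_gr σ hσp) hN hNinv, ih,
      chi_eq hdim, mul_assoc (pc q₁ a * pc q₂ b), ← pow_succ, map_mul, map_pow,
      pc_gr hdim κ hκ hκ2 hg σ hσ hσp hσσ hN hNinv, deg_mul hdim, deg_gr_box κ hdim hκ hκ2 hg σ hσ hσp hσσ,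
      deg_pow hdim, deg_inv hdim, deg_pow hdim, deg_lc hdim κ hκ hκ2]
    push_cast [Nat.cast_sub (show 1 ≤ Curv2.genus k C by omega)]
    ring

end Groth.Agent.HypSq10

end
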