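import Groth.Agent.Lib.HypSq10.Main

/-!
# The square of a hyperelliptic curve, on modules
-/

set_option autoImplicit false
set_option linter.style.haveILetI false
set_option linter.unusedSectionVars false
set_option maxHeartbeats 2000000
set_option backward.isDefEq.respectTransparency false
set_option backward.isDefEq.respectTransparency.types false

universe u

open CategoryTheory CategoryTheory.Limits AlgebraicGeometry TopologicalSpace Opposite

noncomputable section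

namespace Groth.Agent.HypSq10

open Groth.Agent.Abel10 (pc pc_comp pc_id)

noncomputable local instance instLawRows (Y : Scheme.{u}) : PicGrp.Law Y := M2.law Y

variable {k : Type u} [Field k] {C : Scheme.{u}} [C.Over (Spec (CommRingCat.of k))]

local notation "q₁" => pullback.fst (C ↘ Spec (CommRingCat.of k)) (C ↘ Spec (CommRingCat.of k))
local notation "q₂" => pullback.snd (C ↘ Spec (CommRingCat.of k)) (C ↘ Spec (CommRingCat.of k))

/-- The box product of powers. -/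
abbrev boxMod (A B : C.Modules) (m n : ℕ) : (Sq (k := k) C).Modules :=
  CohB1.tensorMod ((Scheme.Modules.pullback q₁).obj (CohB1.tensorPow A m))
    ((Scheme.Modules.pullback q₂).obj (CohB1.tensorPow B n))

theorem inv_box {A B : C.Modules} (hA : PicF.IsInvertible A) (hB : PicF.IsInvertible B) (m n : ℕ) :
    PicF.IsInvertible (boxMod (k := k) A B m n) :=
  M2.isInvertible_tensor (PicLoc.isInvertible_pullback _ (M2.isInvertible_tensorPow hA m))
    (PicLoc.isInvertible_pullback _ (M2.isInvertible_tensorPow hB n))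

theorem cls_box {A B : C.Modules} (hA : PicF.IsInvertible A) (hB : PicF.IsInvertible B) (m n : ℕ) :
    PicGrp.cls (boxMod (k := k) A B m n) (inv_box hA hB m n) =
      pc q₁ (PicGrp.cls A hA ^ m) * pc q₂ (PicGrp.cls B hB ^ n) := by
  refine (AlgEquiv22.cls_tensor (PicLoc.isInvertible_pullback _ (M2.isInvertible_tensorPow hA m))
    (PicLoc.isInvertible_pullback _ (M2.isInvertible_tensorPow hB n))).symm.trans ?_
  rw [← cls_pow_eq hA, ← cls_pow_eq hB]
  exact congrArg₂ (· * ·) (PicGrp.pullHom_cls _ _ _ _).symm (PicGrp.pullHom_cls _ _ _ _).symm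

theorem inv_boxN {A B : C.Modules} (hA : PicF.IsInvertible A) (hB : PicF.IsInvertible B)
    {N : (Sq (k := k) C).Modules} (hN : PicF.IsInvertible N) (m n r : ℕ) :
    PicF.IsInvertible (CohB1.tensorMod (boxMod (k := k) A B m n) (CohB1.tensorPow N r)) :=
  M2.isInvertible_tensor (inv_box hA hB m n) (M2.isInvertible_tensorPow hN r)

theorem cls_boxN {A B : C.Modules} (hA : PicF.IsInvertible A) (hB : PicF.IsInvertible B)
    {N : (Sq (k := k) C).Modules} (hN : PicF.IsInvertible N) (m n r : ℕ) :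
    PicGrp.cls (CohB1.tensorMod (boxMod (k := k) A B m n) (CohB1.tensorPow N r)) (inv_boxN hA hB hN m n r) =
      pc q₁ (PicGrp.cls A hA ^ m) * pc q₂ (PicGrp.cls B hB ^ n) * PicGrp.cls N hN ^ r := by
  rw [← AlgEquiv22.cls_tensor (inv_box hA hB m n) (M2.isInvertible_tensorPow hN r), cls_box hA hB, cls_pow_eq hN]

variable [IsAlgClosed k] [IsProper (C ↘ Spec (CommRingCat.of k))] [Smooth (C ↘ Spec (CommRingCat.of k))]
  [IsIntegral C] (κ : C ⟶ CohB1.ProjSpace 1 k) [IsFinite κ] [Flat κ]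

/-- The module `F_m`. -/
abbrev FmMod (m : ℕ) : (Sq (k := k) C).Modules :=
  boxMod (k := k) ((Scheme.Modules.pullback κ).obj (Twist.twistProjSpace 1 k 1))
    ((Scheme.Modules.pullback κ).obj (Twist.twistProjSpace 1 k 1)) m m

theorem inv_Fm (m : ℕ) : PicF.IsInvertible (FmMod κ m) := inv_box (isInvertible_L κ) (isInvertible_L κ) m m

theorem cls_Fm (m : ℕ) : PicGrp.cls (FmMod κ m) (inv_Fm κ m) = Fm κ m := by
  rw [Fm, ← cls_L]
  exact cls_box _ _ m m

theorem inv_FN {N : (Sq (k := k) C).Modules} (hN : PicF.IsInvertible N) (m r : ℕ) :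
    PicF.IsInvertible (CohB1.tensorMod (FmMod κ m) (CohB1.tensorPow N r)) :=
  M2.isInvertible_tensor (inv_Fm κ m) (M2.isInvertible_tensorPow hN r)

theorem cls_FN {N : (Sq (k := k) C).Modules} (hN : PicF.IsInvertible N) (m r : ℕ) :
    PicGrp.cls (CohB1.tensorMod (FmMod κ m) (CohB1.tensorPow N r)) (inv_FN κ hN m r) =
      Fm κ m * PicGrp.cls N hN ^ r := by
  rw [← AlgEquiv22.cls_tensor (inv_Fm κ m) (M2.isInvertible_tensorPow hN r), cls_Fm, cls_pow_eq hN]

variable (hdim : topologicalKrullDim C = 1) (hκ : κ ≫ CohB1.ProjSpace.toSpec 1 k = C ↘ Spec (CommRingCat.of k))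
  (hκ2 : ∀ y : ↥(CohB1.ProjSpace 1 k), κ.finrank y = 2) (hg : 2 ≤ Curv2.genus k C)
include hdim hκ hκ2 hg

/-- `h⁰(L^s) = s + 1` in the hyperelliptic range. -/
theorem hh_lc (s : ℕ) (hs : s + 1 ≤ Curv2.genus k C) : hh k 0 (lc κ ^ s) = s + 1 := by
  haveI : GeometricallyConnected (C ↘ Spec (CommRingCat.of k)) := GeomIrr.geometricallyConnected_of_isSepClosed _
  have h := S14340.result k C hdim _ hg rfl κ hκ hκ2 s hs
  rwa [finrank_eq_hh (M2.isInvertible_tensorPow (isInvertible_L κ) s) 0, cls_pow_eq (isInvertible_L κ), cls_L] at h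

attribute [local instance] overSq

variable (σ : C ⟶ C) (hσ : σ ≫ κ = κ) (hσp : σ ≫ (C ↘ Spec (CommRingCat.of k)) = C ↘ Spec (CommRingCat.of k))
  (hσσ : σ ≫ σ = 𝟙 C) {N : (Sq (k := k) C).Modules} (hN : PicF.IsInvertible N)
  (hNinv : ClSub.IsInverseOf N (ClSub.idealMod (gr σ hσp).ker))
include hσ hσσ hNinv

theorem pc_gr_eq_pow (m r s : ℕ) (hs : (s : ℤ) = 2 * (m : ℤ) - ((Curv2.genus k C : ℤ) - 1) * r) :
    pc (gr σ hσp) (Fm κ m * PicGrp.cls N hN ^ r) = lc κ ^ s := by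
  have he : 2 * m = s + (Curv2.genus k C - 1) * r := by
    zify [show 1 ≤ Curv2.genus k C by omega]
    linarith
  rw [pc_gr_FN hdim κ hκ hκ2 hg σ hσ hσp hσσ hN hNinv, he, pow_add, pow_mul, mul_inv_cancel_right]

/-- One more copy of the graph, when the smaller class has no `H¹`. -/
theorem hh_zero_succ (m r : ℕ) (hm : Curv2.genus k C ≤ m)
    (hmr : ((Curv2.genus k C : ℤ) - 1) * (r + 1) < 2 * m) :
    hh k 0 (Fm κ m * PicGrp.cls N hN ^ (r + 1)) = hh k 0 (Fm κ m * PicGrp.cls N hN ^ r) +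
      hh k 0 (pc (gr σ hσp) (Fm κ m * PicGrp.cls N hN ^ (r + 1))) := by
  haveI := CurveCartier25.smoothOfRelativeDimension_one (C ↘ Spec (CommRingCat.of k)) hdim
  haveI := isClosedImmersion_gr (k := k) σ hσp
  rw [pow_succ, ← mul_assoc]
  exact hh_restrict_add (gr σ hσp) (gr_over σ hσp) (isEffCartierIdeal_gr σ hσp) hN hNinv _
    (van_one hdim κ hκ hκ2 hg σ hσ hσp hσσ hN hNinv m r hm hmr)

/-- One more copy of the graph, when its restriction has negative degree. -/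
theorem hh_zero_stable (m r : ℕ) (hneg : 2 * (m : ℤ) < ((Curv2.genus k C : ℤ) - 1) * (r + 1)) :
    hh k 0 (Fm κ m * PicGrp.cls N hN ^ (r + 1)) = hh k 0 (Fm κ m * PicGrp.cls N hN ^ r) := by
  haveI := CurveCartier25.smoothOfRelativeDimension_one (C ↘ Spec (CommRingCat.of k)) hdim
  haveI := isClosedImmersion_gr (k := k) σ hσp
  rw [pow_succ, ← mul_assoc]
  refine hh_restrict_zero (gr σ hσp) (gr_over σ hσp) (isEffCartierIdeal_gr σ hσp) hN hNinv _
    (van_zero_of_deg_neg (k := k) hdim ?_)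
  rw [mul_assoc, ← pow_succ, deg_gr_FN hdim κ hκ hκ2 hg σ hσ hσp hσσ hN hNinv]
  push_cast
  linarith

theorem hh_zero_eq_chi (m r : ℕ) (hm : Curv2.genus k C ≤ m)
    (hmr : ((Curv2.genus k C : ℤ) - 1) * (r + 1) < 2 * m) :
    (hh k 0 (Fm κ m * PicGrp.cls N hN ^ r) : ℤ) = (2 * (m : ℤ) - ((Curv2.genus k C : ℤ) - 1)) ^ 2 +
      4 * (m : ℤ) * r - ((Curv2.genus k C : ℤ) - 1) * r * (r + 2) := by
  have h := chi_eq_hh_sq hdim (Fm κ m * PicGrp.cls N hN ^ r)
  rw [chi_FN hdim κ hκ hκ2 hg σ hσ hσp hσσ hN hNinv,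
    hh_of_van (van_one hdim κ hκ hκ2 hg σ hσ hσp hσσ hN hNinv m r hm hmr),
    hh_of_van (van_two hdim κ hκ hκ2 hg σ hσ hσp hσσ hN hNinv m r hm)] at h
  push_cast at h
  linarith

/-- The middle range. -/
theorem hh_middle (m r : ℕ) (hm : Curv2.genus k C ≤ m) (hpos : ((Curv2.genus k C : ℤ) - 1) * r < 2 * m)
    (hle : 2 * (m : ℤ) ≤ ((Curv2.genus k C : ℤ) - 1) * (r + 1)) :
    (hh k 0 (Fm κ m * PicGrp.cls N hN ^ r) : ℤ) = (2 * (m : ℤ) - ((Curv2.genus k C : ℤ) - 1)) ^ 2 +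
      4 * (m : ℤ) * r - ((Curv2.genus k C : ℤ) - 1) * r * (r + 1) - 2 * m + Curv2.genus k C := by
  cases r with
  | zero =>
    exfalso
    push_cast at hle
    omega
  | succ r =>
    push_cast at hpos hle
    obtain ⟨s, hs⟩ : ∃ s : ℕ, (s : ℤ) = 2 * (m : ℤ) - ((Curv2.genus k C : ℤ) - 1) * ((r + 1 : ℕ) : ℤ) :=
      ⟨(2 * (m : ℤ) - ((Curv2.genus k C : ℤ) - 1) * ((r + 1 : ℕ) : ℤ)).toNat,
        Int.toNat_of_nonneg (by push_cast; linarith)⟩
    rw [hh_zero_succ κ hdim hκ hκ2 hg σ hσ hσp hσσ hN hNinv m r hm hpos,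
      pc_gr_eq_pow κ hdim hκ hκ2 hg σ hσ hσp hσσ hN hNinv m (r + 1) s hs]
    push_cast at hs
    rw [hh_lc κ hdim hκ hκ2 hg s (by nlinarith)]
    push_cast
    rw [hh_zero_eq_chi κ hdim hκ hκ2 hg σ hσ hσp hσσ hN hNinv m r hm hpos, hs]
    ring

theorem hh_one_middle (m r : ℕ) (hm : Curv2.genus k C ≤ m) (hpos : ((Curv2.genus k C : ℤ) - 1) * r < 2 * m)
    (hle : 2 * (m : ℤ) ≤ ((Curv2.genus k C : ℤ) - 1) * (r + 1)) :
    (hh k 1 (Fm κ m * PicGrp.cls N hN ^ r) : ℤ) =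
      (Curv2.genus k C : ℤ) - (2 * (m : ℤ) - ((Curv2.genus k C : ℤ) - 1) * r) := by
  have h := chi_eq_hh_sq hdim (Fm κ m * PicGrp.cls N hN ^ r)
  rw [chi_FN hdim κ hκ hκ2 hg σ hσ hσp hσσ hN hNinv,
    hh_middle κ hdim hκ hκ2 hg σ hσ hσp hσσ hN hNinv m r hm hpos hle,
    hh_of_van (van_two hdim κ hκ hκ2 hg σ hσ hσp hσσ hN hNinv m r hm)] at h
  push_cast at h
  linarith

omit hκ hκ2 hg hσ hσσ hNinv in
/-- The degree is invariant under automorphisms. -/
theorem deg_pc_iso (φ : C ⟶ C) [IsIso φ]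
    (hφ : φ ≫ (C ↘ Spec (CommRingCat.of k)) = C ↘ Spec (CommRingCat.of k)) (c : PicLoc.PicSet C) :
    deg k (pc φ c) = deg k c := by
  suffices h : ∀ d : PicLoc.PicSet C, chi k (pc φ d) = chi k d by
    have h1 := h 1
    rw [map_one] at h1
    rw [deg, deg, h c]
  intro d
  haveI : IsNoetherian C := CohFound.isNoetherian_of_isProper (C ↘ Spec (CommRingCat.of k))
  obtain ⟨d', -, ⟨e⟩⟩ := M2.exists_inverse (rep_inv d)
  obtain ⟨u⟩ := NumPoly18.nonempty_push_unit_of_isIso φ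
  have hp := PicLoc.isInvertible_pullback φ (rep_inv d)
  have h1 : chi k (pc φ d) = Curv2.euler k C ((Scheme.Modules.pullback φ).obj (rep d)) := by
    rw [euler_eq_chi hp]
    congr 1
    conv_lhs => rw [← cls_rep d]
    exact PicGrp.pullHom_cls _ _ _ _
  rw [h1, ← AmpleFin18.euler_push φ hφ _ (CurveCoh17.isCoh_of_ofRank ((M2.isInvertible_iff_isFinLocFreeOfRank_one _).1 hp)).1]
  exact CurveCoh17.euler_iso ((Scheme.Modules.pushforward φ).mapIso (M2.tensorLUnit _).symm ≪≫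
    ((Kunneth22.projIso φ e).app (Coh.structureModule C)).symm ≪≫ (M2.tensorR (rep d)).mapIso u ≪≫
    M2.tensorLUnit _)

end Groth.Agent.HypSq10

end
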